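import Mathlib
import Cfsg.Agent.H341.ThreeList_m3
import Cfsg.Agent.H390.B6.OddTwo
import Cfsg.Agent.S0281
import Cfsg.Agent.S0298
import Cfsg.Agent.S0299
import Cfsg.Agent.S0300
import Cfsg.Agent.S0301
import Cfsg.Agent.S0302
import Cfsg.Agent.S0303
import Cfsg.Agent.S0305
import Cfsg.Agent.S0306
import Cfsg.Agent.LieClassical.FieldTransfer
import Cfsg.Agent.S0244
import Cfsg.Agent.S0269
import Cfsg.Agent.Prune
set_option linter.all false
prune_inst 0x7f00000000000000000000000000000000000000000000000000000000000000000000000000000000000000000000000000000000000000000000000000000000000000000000000000000000000000003fffffffffffffffffffffffffffbeffbdffffffff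
open scoped Cfsg.Agent.FastGrp

/-!
# Names of the simple classical groups over a given field (helper262, for S5715 / S5716)

* `rk`, `fld`, `IsCl`;
* `named_of_classical` : the six families of S5715;
* `named_of_form` : the six families of S5716, any dimension.
-/

set_option autoImplicit false
set_option linter.unusedSectionVars false

namespace Cfsg.Agent.H262.Rx

open Cfsg Cfsg.Agent.OrdDiv Cfsg.Agent.H436

universe u

/-- the rank parameter of a classical name -/
def rk : Grp → ℕ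
  | .psl n _ => n
  | .psp m _ => m
  | .psu n _ => n
  | .oodd m _ => m
  | .oplus m _ => m
  | .ominus m _ => m
  | _ => 0

/-- the field parameter of a classical name -/
def fld : Grp → ℕ
  | .psl _ q => q
  | .psp _ q => q
  | .psu _ q => q
  | .oodd _ q => q
  | .oplus _ q => q
  | .ominus _ q => q
  | _ => 0

/-- the classical names -/
def IsCl (g : Grp) : Prop :=
  (∃ n q, g = .psl n q) ∨ (∃ m q, g = .psp m q) ∨ (∃ n q, g = .psu n q) ∨ (∃ m q, g = .oodd m q) ∨
    (∃ m q, g = .oplus m q) ∨ (∃ m q, g = .ominus m q)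

section Named

variable {S : Type u} [Group S] {F : Type} [Field F] [Fintype F]

theorem named_psl {n : ℕ} (hn : 2 ≤ n) (hn2 : n = 2 → 4 ≤ Fintype.card F)
    (e : S ≃* Matrix.ProjectiveSpecialLinearGroup (Fin n) F) : IsNamed (.psl n (Fintype.card F)) S := by
  refine .mk' ⟨F, inferInstance, inferInstance, rfl, ⟨e⟩⟩ ⟨hn, hn2, Fintype.isPrimePow_card_of_field⟩ ?_
  rw [Nat.card_congr e.toEquiv]
  exact psl_eq hn

theorem named_psp {m : ℕ} (hm : 2 ≤ m) (hm2 : m = 2 → 3 ≤ Fintype.card F) (e : S ≃* PSp m F) :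
    IsNamed (.psp m (Fintype.card F)) S := by
  refine .mk' ⟨F, inferInstance, inferInstance, rfl, ⟨e⟩⟩ ⟨hm, hm2, Fintype.isPrimePow_card_of_field⟩ ?_
  rw [Nat.card_congr e.toEquiv]
  exact psp_eq hm

theorem named_psu {n q : ℕ} (hF : Fintype.card F = q ^ 2) (hn : 3 ≤ n) (hn2 : ¬ (n = 3 ∧ q = 2))
    (e : S ≃* PSU n F q) : IsNamed (.psu n q) S := by
  have hq2 : IsPrimePow (q ^ 2) := hF ▸ Fintype.isPrimePow_card_of_field
  have hqp : IsPrimePow q := (isPrimePow_pow_iff (by norm_num)).1 hq2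
  refine .mk' ⟨F, inferInstance, inferInstance, hF, ⟨e⟩⟩ ⟨hn, hn2, hqp⟩ ?_
  rw [Nat.card_congr e.toEquiv]
  exact psu_eq hF hn

theorem named_oodd {m : ℕ} (hm : 3 ≤ m) (ho : Odd (Fintype.card F)) (e : S ≃* POmega F (quadFormOdd m F)) :
    IsNamed (.oodd m (Fintype.card F)) S := by
  refine .mk' ⟨F, inferInstance, inferInstance, rfl, ⟨e⟩⟩ ⟨hm, ho, Fintype.isPrimePow_card_of_field⟩ ?_
  rw [Nat.card_congr e.toEquiv]
  exact oodd_eq hm ho

theorem named_oplus {m : ℕ} (hm : 4 ≤ m) (e : S ≃* POmega F (quadFormPlus m F)) :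
    IsNamed (.oplus m (Fintype.card F)) S := by
  refine .mk' ⟨F, inferInstance, inferInstance, rfl, ⟨e⟩⟩ ⟨hm, Fintype.isPrimePow_card_of_field⟩ ?_
  rw [Nat.card_congr e.toEquiv]
  exact oplus_eq hm

theorem named_ominus {m : ℕ} (hm : 4 ≤ m) {a b : F}
    (hab : ∀ z₁ z₂ : F, z₁ ^ 2 + a * z₁ * z₂ + b * z₂ ^ 2 = 0 → z₁ = 0 ∧ z₂ = 0)
    (e : S ≃* POmega F (quadFormMinus (m - 1) F a b)) : IsNamed (.ominus m (Fintype.card F)) S := by
  refine .mk' ⟨F, inferInstance, inferInstance, a, b, rfl, hab, ⟨e⟩⟩ ⟨hm, Fintype.isPrimePow_card_of_field⟩ ?_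
  rw [Nat.card_congr e.toEquiv]
  exact ominus_eq hm hab

end Named

/-- **The families of S5715 have classical names.** -/
theorem named_of_classical {G : Type u} [Group G]
    (h : Cfsg.IsPSL G ∨ Cfsg.IsPSp G ∨ Cfsg.IsPSU G ∨ Cfsg.IsPOmegaOdd G ∨ Cfsg.IsPOmegaPlus G ∨ Cfsg.IsPOmegaMinus G) :
    ∃ g, IsCl g ∧ IsNamed g G := by
  rcases h with h | h | h | h | h | h
  · obtain ⟨F, _, _, n, hn, hn2, ⟨e⟩⟩ := h
    exact ⟨_, Or.inl ⟨n, _, rfl⟩, named_psl hn hn2 e⟩
  · obtain ⟨F, _, _, n, hn, hn2, ⟨e⟩⟩ := h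
    exact ⟨_, Or.inr (Or.inl ⟨n, _, rfl⟩), named_psp hn hn2 e⟩
  · obtain ⟨F, _, _, n, q, hF, hn, hn2, ⟨e⟩⟩ := h
    exact ⟨_, Or.inr (Or.inr (Or.inl ⟨n, _, rfl⟩)), named_psu hF hn hn2 e⟩
  · obtain ⟨F, _, _, n, hn, hn2, ⟨e⟩⟩ := h
    exact ⟨_, Or.inr (Or.inr (Or.inr (Or.inl ⟨n, _, rfl⟩))), named_oodd hn hn2 e⟩
  · obtain ⟨F, _, _, n, hn, ⟨e⟩⟩ := h
    exact ⟨_, Or.inr (Or.inr (Or.inr (Or.inr (Or.inl ⟨n, _, rfl⟩)))), named_oplus hn e⟩
  · obtain ⟨F, _, _, n, a, b, hn, hab, ⟨e⟩⟩ := h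
    exact ⟨_, Or.inr (Or.inr (Or.inr (Or.inr (Or.inr ⟨n, _, rfl⟩)))), named_ominus hn hab e⟩

section Small

variable (F : Type) [Field F]

/-- `Sp_2 = SL_2` -/
def spTwo : Matrix.symplecticGroup (Fin 1) F ≃* Matrix.SpecialLinearGroup (Fin 2) F where
  toFun A := ⟨Matrix.reindex finSumFinEquiv finSumFinEquiv (A : Matrix (Fin 1 ⊕ Fin 1) (Fin 1 ⊕ Fin 1) F), by
    rw [Matrix.det_reindex_self]
    exact (S0244.result _).1 A.2⟩
  invFun A := ⟨Matrix.reindex finSumFinEquiv.symm finSumFinEquiv.symm (A : Matrix (Fin 2) (Fin 2) F), by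
    rw [S0244.result, Matrix.det_reindex_self]
    exact A.2⟩
  left_inv A := by
    apply Subtype.ext
    ext i j
    simp
  right_inv A := by
    apply Subtype.ext
    ext i j
    simp
  map_mul' A B := by
    apply Subtype.ext
    change Matrix.reindex finSumFinEquiv finSumFinEquiv (A.1 * B.1) =
      Matrix.reindex finSumFinEquiv finSumFinEquiv A.1 * Matrix.reindex finSumFinEquiv finSumFinEquiv B.1
    rw [Matrix.reindex_apply, Matrix.reindex_apply, Matrix.reindex_apply, Matrix.submatrix_mul_equiv]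

/-- `PSp_2 = PSL_2` -/
def pspOne : PSp 1 F ≃* Matrix.ProjectiveSpecialLinearGroup (Fin 2) F :=
  LieClassical.FieldTransfer.centralQuotientCongr (spTwo F)

end Small

/-! ### trivial cases -/

theorem comm_of_subsingleton {ι : Type*} [Fintype ι] [Subsingleton ι] {F : Type*} [Field F] (A B : Matrix ι ι F) :
    A * B = B * A := by
  ext i j
  rw [Matrix.mul_apply, Matrix.mul_apply]
  refine Finset.sum_congr rfl fun k _ => ?_
  rw [Subsingleton.elim i k, Subsingleton.elim j k, mul_comm]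

theorem subsingleton_quot {X : Type*} [Group X] (h : ∀ a b : X, a * b = b * a) :
    Subsingleton (X ⧸ Subgroup.center X) := by
  have : Subgroup.center X = ⊤ := by
    rw [Subgroup.eq_top_iff']
    intro x
    rw [Subgroup.mem_center_iff]
    exact fun g => h g x
  rw [this]
  exact QuotientGroup.subsingleton_quotient_top

theorem not_simple_of_equiv {G : Type u} [Group G] [IsSimpleGroup G] {X : Type*} [Group X] (h : Subsingleton X)
    (e : G ≃* X) : False :=
  not_subsingleton G e.toEquiv.subsingleton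

theorem subsingleton_pomega {ι : Type} [Fintype ι] [DecidableEq ι] {F : Type*} [Field F] {Q : (ι → F) → F}
    (h : ∀ a b : isometryGroup F Q, a * b = b * a) : Subsingleton (POmega F Q) :=
  subsingleton_quot fun a b => Subtype.ext (h a.1 b.1)

theorem subsingleton_pomega_of_sub {ι : Type} [Fintype ι] [DecidableEq ι] [Subsingleton ι] {F : Type*} [Field F]
    {Q : (ι → F) → F} : Subsingleton (POmega F Q) :=
  subsingleton_pomega fun a b => Subtype.ext (Units.ext (comm_of_subsingleton _ _))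

/-- the rotations of a dihedral group contain the commutator subgroup and commute -/
theorem comm_dihedral {n : ℕ} : ∃ R : Subgroup (DihedralGroup n), commutator (DihedralGroup n) ≤ R ∧
    ∀ a ∈ R, ∀ b ∈ R, a * b = b * a := by
  let R : Subgroup (DihedralGroup n) :=
    { carrier := {x | ∃ i, x = DihedralGroup.r i}
      mul_mem' := by
        rintro _ _ ⟨i, rfl⟩ ⟨j, rfl⟩
        exact ⟨i + j, DihedralGroup.r_mul_r i j⟩
      one_mem' := ⟨0, rfl⟩
      inv_mem' := by
        rintro _ ⟨i, rfl⟩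
        exact ⟨-i, DihedralGroup.inv_r i⟩ }
  refine ⟨R, ?_, ?_⟩
  · rw [commutator_def, Subgroup.commutator_le]
    intro a _ b _
    change ∃ i, a * b * a⁻¹ * b⁻¹ = DihedralGroup.r i
    rcases a with i | i <;> rcases b with j | j <;> simp
    exact ⟨0, rfl⟩
  · rintro _ ⟨i, rfl⟩ _ ⟨j, rfl⟩
    rw [DihedralGroup.r_mul_r, DihedralGroup.r_mul_r, add_comm]

theorem subsingleton_pomega_of_dihedral {ι : Type} [Fintype ι] [DecidableEq ι] {F : Type*} [Field F] {Q : (ι → F) → F}
    {n : ℕ} (e : isometryGroup F Q ≃* DihedralGroup n) : Subsingleton (POmega F Q) := by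
  obtain ⟨R, hR, hc⟩ := comm_dihedral (n := n)
  refine subsingleton_quot fun a b => Subtype.ext ?_
  have key : ∀ x : Omega F Q, e x.1 ∈ R := by
    intro x
    apply hR
    have h1 : (commutator (isometryGroup F Q)).map e.toMonoidHom ≤ commutator (DihedralGroup n) := by
      rw [commutator_def, commutator_def, Subgroup.map_commutator]
      exact Subgroup.commutator_mono le_top le_top
    exact h1 ⟨x.1, x.2, rfl⟩
  apply e.injective
  change e (a.1 * b.1) = e (b.1 * a.1)
  rw [map_mul, map_mul]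
  exact hc _ (key a) _ (key b)

/-- a simple group is not a direct product of two copies of the same group -/
theorem not_simple_prod {G : Type u} [Group G] [IsSimpleGroup G] {X : Type*} [Group X] (e : G ≃* X × X) : False := by
  have hs : IsSimpleGroup (X × X) := e.symm.isSimpleGroup
  have hn : (MonoidHom.fst X X).ker = ⊥ ∨ (MonoidHom.fst X X).ker = ⊤ :=
    (inferInstance : (MonoidHom.fst X X).ker.Normal).eq_bot_or_eq_top
  have hX : Subsingleton X := by
    rcases hn with h | h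
    · refine ⟨fun a b => ?_⟩
      have h1 : ∀ c : X, c = 1 := by
        intro c
        have h2 : ((1, c) : X × X) ∈ (MonoidHom.fst X X).ker := rfl
        rw [h, Subgroup.mem_bot] at h2
        exact congrArg Prod.snd h2
      rw [h1 a, h1 b]
    · refine ⟨fun a b => ?_⟩
      have h1 : ∀ c : X, c = 1 := by
        intro c
        have h2 : ((c, 1) : X × X) ∈ (MonoidHom.fst X X).ker := h ▸ Subgroup.mem_top _
        exact h2
      rw [h1 a, h1 b]
  exact not_simple_of_equiv (inferInstance : Subsingleton (X × X)) e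

/-- a field with `q` elements when there is one with `q ^ 2` -/
theorem exists_field_of_sq {F : Type} [Field F] [Fintype F] {q : ℕ} (hF : Fintype.card F = q ^ 2) :
    ∃ (K : Type) (_ : Field K) (_ : Fintype K), Fintype.card K = q := by
  have hq2 : IsPrimePow (q ^ 2) := hF ▸ Fintype.isPrimePow_card_of_field
  obtain ⟨p, k, hp, hk, hpk⟩ := (isPrimePow_pow_iff (by norm_num)).1 hq2
  have : Fact p.Prime := ⟨hp.nat_prime⟩
  let _ := Fintype.ofFinite (GaloisField p k)
  refine ⟨GaloisField p k, inferInstance, inferInstance, ?_⟩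
  rw [← Nat.card_eq_fintype_card, GaloisField.card p k hk.ne', hpk]

/-- a field with `q ^ 2` elements -/
theorem exists_field_sq (F : Type) [Field F] [Fintype F] :
    ∃ (K : Type) (_ : Field K) (_ : Fintype K), Fintype.card K = Fintype.card F ^ 2 := by
  obtain ⟨p, k, hp, hk, hpk⟩ := (Fintype.isPrimePow_card_of_field (α := F))
  have : Fact p.Prime := ⟨hp.nat_prime⟩
  let _ := Fintype.ofFinite (GaloisField p (k * 2))
  refine ⟨GaloisField p (k * 2), inferInstance, inferInstance, ?_⟩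
  rw [← Nat.card_eq_fintype_card, GaloisField.card p (k * 2) (by omega), ← hpk, pow_mul]

/-- **The families of S5716 have classical names.** -/
theorem named_of_form (F : Type) [Field F] [Fintype F] (hF : 16 ≤ Fintype.card F) (G : Type u) [Group G] [Finite G]
    [IsSimpleGroup G]
    (h : (∃ n : ℕ, Nonempty (G ≃* Matrix.ProjectiveSpecialLinearGroup (Fin n) F)) ∨
          (∃ m : ℕ, Nonempty (G ≃* Cfsg.PSp m F)) ∨
          (∃ n q : ℕ, Fintype.card F = q ^ 2 ∧ Nonempty (G ≃* Cfsg.PSU n F q)) ∨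
          (∃ m : ℕ, Nonempty (G ≃* Cfsg.POmega F (Cfsg.quadFormOdd m F))) ∨
          (∃ m : ℕ, Nonempty (G ≃* Cfsg.POmega F (Cfsg.quadFormPlus m F))) ∨
          (∃ (m : ℕ) (a b : F), (∀ z₁ z₂ : F, z₁ ^ 2 + a * z₁ * z₂ + b * z₂ ^ 2 = 0 → z₁ = 0 ∧ z₂ = 0) ∧
            Nonempty (G ≃* Cfsg.POmega F (Cfsg.quadFormMinus m F a b)))) :
    ∃ g, IsCl g ∧ IsNamed g G ∧ Fintype.card F ≤ fld g ^ 2 := by
  have hsub : Subsingleton (Unit ⊕ (Fin 0 ⊕ Fin 0)) := by
    refine ⟨?_⟩
    rintro (a | a | a) (b | b | b)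
    · rfl
    all_goals first | exact a.elim0 | exact b.elim0
  have hsq : Fintype.card F ≤ Fintype.card F ^ 2 := Nat.le_self_pow (by norm_num) _
  have psl : ∀ {n : ℕ}, Nonempty (G ≃* Matrix.ProjectiveSpecialLinearGroup (Fin n) F) →
      ∃ g, IsCl g ∧ IsNamed g G ∧ Fintype.card F ≤ fld g ^ 2 := by
    rintro n ⟨e⟩
    by_cases hn : 2 ≤ n
    · exact ⟨_, Or.inl ⟨n, _, rfl⟩, named_psl hn (fun _ => by omega) e, hsq⟩
    · exfalso
      have : Subsingleton (Fin n) := Fin.subsingleton_iff_le_one.2 (by omega)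
      exact not_simple_of_equiv (subsingleton_quot (X := Matrix.SpecialLinearGroup (Fin n) F)
        fun a b => Subtype.ext (comm_of_subsingleton _ _)) e
  have psp : ∀ {n : ℕ}, Nonempty (G ≃* PSp n F) →
      ∃ g, IsCl g ∧ IsNamed g G ∧ Fintype.card F ≤ fld g ^ 2 := by
    rintro n ⟨e⟩
    rcases Nat.lt_or_ge n 2 with hn | hn
    · interval_cases n
      · exact (not_simple_of_equiv (subsingleton_quot fun a b => Subtype.ext (comm_of_subsingleton _ _)) e).elim
      · exact psl ⟨e.trans (pspOne F)⟩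
    · exact ⟨_, Or.inr (Or.inl ⟨n, _, rfl⟩), named_psp hn (fun _ => by omega) e, hsq⟩
  rcases h with h | h | h | h | h | h
  · obtain ⟨n, e⟩ := h
    exact psl e
  · obtain ⟨n, e⟩ := h
    exact psp e
  · obtain ⟨n, q, hq, ⟨e⟩⟩ := h
    have hq4 : 4 ≤ q := by
      by_contra hc
      have h1 : q ^ 2 ≤ 3 ^ 2 := Nat.pow_le_pow_left (by omega) 2
      omega
    rcases Nat.lt_or_ge n 3 with hn | hn
    · rcases Nat.lt_or_ge n 2 with hn2 | hn2
      · exfalso
        have : Subsingleton (Fin n) := Fin.subsingleton_iff_le_one.2 (by omega)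
        exact not_simple_of_equiv (subsingleton_quot (X := SU n F q) fun a b =>
          Subtype.ext (Subtype.ext (comm_of_subsingleton _ _))) e
      · obtain rfl : n = 2 := by omega
        obtain ⟨K, _, _, hK⟩ := exists_field_of_sq hq
        obtain ⟨e1⟩ := Cfsg.Agent.S0281.result (K := K) hq hK
        have e' : Cfsg.PSU 2 F q ≃* Matrix.ProjectiveSpecialLinearGroup (Fin 2) K :=
          Cfsg.Agent.LieClassical.FieldTransfer.centralQuotientCongr e1
        refine ⟨_, Or.inl ⟨2, _, rfl⟩, named_psl le_rfl (fun _ => by omega) (e.trans e'), ?_⟩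
        change _ ≤ (Fintype.card K) ^ 2
        rw [hK, hq]
    · exact ⟨_, Or.inr (Or.inr (Or.inl ⟨n, _, rfl⟩)), named_psu hq hn (fun h => by omega) e, hq.le⟩
  · obtain ⟨m, ⟨e⟩⟩ := h
    rcases Nat.even_or_odd (Fintype.card F) with he | ho
    · rcases Nat.eq_zero_or_pos m with rfl | hm
      · exact (not_simple_of_equiv subsingleton_pomega_of_sub e).elim
      · have h2 : CharP F 2 := by
          obtain ⟨p, hp⟩ := CharP.exists F
          obtain ⟨k, hpp, hk⟩ := FiniteField.card F p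
          have h3 : 2 ∣ p ^ (k : ℕ) := hk ▸ he.two_dvd
          have h4 := (Nat.prime_dvd_prime_iff_eq Nat.prime_two hpp).1 (Nat.prime_two.dvd_of_dvd_pow h3)
          rwa [← h4] at hp
        obtain ⟨e1⟩ := H376.Six.odd_equiv_psp (F := F) hm (Cfsg.Agent.S0269.result m (by omega))
        exact psp ⟨e.trans e1⟩
    · rcases Nat.lt_or_ge m 3 with hm | hm
      · interval_cases m
        · exact (not_simple_of_equiv subsingleton_pomega_of_sub e).elim
        · obtain ⟨e1⟩ := Cfsg.Agent.S0298.result (F := F) ho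
          exact psl ⟨e.trans e1⟩
        · obtain ⟨e1⟩ := Cfsg.Agent.S0301.result (F := F) ho
          exact psp ⟨e.trans e1⟩
      · exact ⟨_, Or.inr (Or.inr (Or.inr (Or.inl ⟨m, _, rfl⟩))), named_oodd hm ho e, hsq⟩
  · obtain ⟨m, ⟨e⟩⟩ := h
    rcases Nat.lt_or_ge m 4 with hm | hm
    · interval_cases m
      · exact (not_simple_of_equiv subsingleton_pomega_of_sub e).elim
      · obtain ⟨e1⟩ := Cfsg.Agent.S0305.result (F := F) rfl
        exact (not_simple_of_equiv (subsingleton_pomega_of_dihedral e1) e).elim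
      · obtain ⟨e1⟩ := Cfsg.Agent.S0299.result (F := F) (by omega)
        exact (not_simple_prod (e.trans e1)).elim
      · obtain ⟨e1⟩ := Cfsg.Agent.S0302.result (F := F)
        exact psl ⟨e.trans e1⟩
    · exact ⟨_, Or.inr (Or.inr (Or.inr (Or.inr (Or.inl ⟨m, _, rfl⟩)))), named_oplus hm e, hsq⟩
  · obtain ⟨m, a, b, hab, ⟨e⟩⟩ := h
    obtain ⟨K, _, _, hK⟩ := exists_field_sq F
    rcases Nat.lt_or_ge m 3 with hm | hm
    · interval_cases m
      · obtain ⟨e1⟩ := Cfsg.Agent.S0306.result (F := F) rfl a b hab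
        exact (not_simple_of_equiv (subsingleton_pomega_of_dihedral e1) e).elim
      · obtain ⟨e1⟩ := Cfsg.Agent.S0300.result (F := F) (K := K) rfl hK a b hab
        refine ⟨_, Or.inl ⟨2, _, rfl⟩, named_psl le_rfl (fun _ => by omega) (e.trans e1), ?_⟩
        change _ ≤ (Fintype.card K) ^ 2
        rw [hK]
        exact hsq.trans (Nat.le_self_pow (by norm_num) _)
      · obtain ⟨e1⟩ := Cfsg.Agent.S0303.result (F := F) (K := K) rfl hK a b hab
        exact ⟨_, Or.inr (Or.inr (Or.inl ⟨4, _, rfl⟩)), named_psu hK (by norm_num) (fun h => by omega) (e.trans e1), hsq⟩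
    · exact ⟨_, Or.inr (Or.inr (Or.inr (Or.inr (Or.inr ⟨m + 1, _, rfl⟩)))), named_ominus (by omega) hab e, hsq⟩

end Cfsg.Agent.H262.Rx
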