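import Mathlib
import Cfsg.Prelude.Def_LieClassical
import Cfsg.Agent.H105.SLExt
import Cfsg.Agent.Prune
set_option linter.all false

section
prune_inst 0x7ffee9f8ebbfbbdfdfff7e7faffafffc7b959fffa6fffd73ffe06bffabdff7920be5ffaf6bf0b0fe0e77e01418b87853fb7eefffe26fdc7ffffd5ff45ffbee0ff5f7bd0851969c340fbc0fff63f0778e7f3fffffffffffffffffffffffffffbeffbfffffffff

-- part: H141/Rg/Lin
section
set_option linter.all false

/-!
# S5714: counting vectors with a given annihilator, definitions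

`K` a finite field, `V` a finite `K`-space, `τ : X →* (V →ₗ[K] V)` a finite group acting on `V`.

* `Ann y v g` : `g` generates the annihilator of `v` under `y`;
* `str σ g` : the `σ`-conjugate reciprocal of `g`, `ed σ g` : the degree of `gcd (g, str σ g)`;
* `EL σ τ s c` : for all monic `g` prime to `s` with `g(0) ≠ 0` the number of pairs `(x, v)` with `Ann (τ x) v g` is at
  most `c (deg g) * |K| ^ (ed σ g / 2) * |X|`;
* `Irr' f` : monic irreducible, different from the indeterminate;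
* `Dv y f` : `f` divides the characteristic polynomial of `y`; `Rep2 y f` : it does so at least twice;
* `B1 k f`, `B2 k f h` : coincidences between the powers of the roots;
* `smallP y S` : the sum of the primary components of `y` for the polynomials in `S`;
* `GoodPow y A k` : `A` has a `y`-invariant complement `B` such that for `1 ≤ m < k` the centraliser of `y ^ m`
  preserves `A` and `B` and commutes with `y` on `B`.
-/

set_option autoImplicit false

namespace Cfsg.Agent.H141.Rg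

open Polynomial Module

section

variable {K V : Type*} [Field K] [AddCommGroup V] [Module K V]

/-- `g` generates the annihilator of `v` under `y` -/
def Ann (y : V →ₗ[K] V) (v : V) (g : K[X]) : Prop := ∀ f : K[X], aeval y f v = 0 ↔ g ∣ f

/-- the conjugate reciprocal -/
noncomputable def str (σ : K →+* K) (g : K[X]) : K[X] := (g.map σ).reverse

open Classical in
/-- the degree of the greatest common divisor of `g` and its conjugate reciprocal -/
noncomputable def ed (σ : K →+* K) (g : K[X]) : ℕ := (EuclideanDomain.gcd g (str σ g)).natDegree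

/-- the bound for the number of pairs -/
def EL (σ : K →+* K) {X : Type*} [Group X] (τ : X →* (V →ₗ[K] V)) (s : K[X]) (c : ℕ → ℝ) : Prop :=
  ∀ g : K[X], g.Monic → g.coeff 0 ≠ 0 → IsCoprime g s →
    (Nat.card {p : X × V // Ann (τ p.1) p.2 g} : ℝ) ≤
      c g.natDegree * Real.sqrt ((Nat.card K : ℝ) ^ ed σ g) * Nat.card X

/-- monic irreducible polynomials different from `X` -/
def Irr' (f : K[X]) : Prop := f.Monic ∧ Irreducible f ∧ f ≠ Polynomial.X

/-- `f` divides the characteristic polynomial -/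
def Dv (y : V →ₗ[K] V) (f : K[X]) : Prop := ∃ v, v ≠ 0 ∧ aeval y f v = 0

/-- `f ^ 2` divides the characteristic polynomial (`f` irreducible) -/
def Rep2 (y : V →ₗ[K] V) (f : K[X]) : Prop :=
  2 * f.natDegree ≤ finrank K (LinearMap.ker (aeval y f)) ∨ ∃ v, aeval y (f ^ 2) v = 0 ∧ aeval y f v ≠ 0

/-- two different roots of `f` have the same `m`-th power -/
def B1 (k : ℕ) (f : K[X]) : Prop :=
  ∃ m, 1 ≤ m ∧ m < k ∧ ∃ a b : AlgebraicClosure K, aeval a f = 0 ∧ aeval b f = 0 ∧ a ≠ b ∧ a ^ m = b ^ m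

/-- a root of `f` and a root of `h` have the same `m`-th power -/
def B2 (k : ℕ) (f h : K[X]) : Prop :=
  ∃ m, 1 ≤ m ∧ m < k ∧ ∃ a b : AlgebraicClosure K, aeval a f = 0 ∧ aeval b h = 0 ∧ a ^ m = b ^ m

/-- the sum of the primary components -/
noncomputable def smallP (y : V →ₗ[K] V) (S : Set K[X]) : Submodule K V :=
  ⨆ f ∈ S, ⨆ j : ℕ, LinearMap.ker (aeval y (f ^ j))

/-- the good situation -/
def GoodPow (y : V →ₗ[K] V) (A : Submodule K V) (k : ℕ) : Prop :=
  ∃ B : Submodule K V, IsCompl A B ∧ (∀ a ∈ A, y a ∈ A) ∧ (∀ b ∈ B, y b ∈ B) ∧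
    ∀ m, 1 ≤ m → m < k → ∀ f : V →ₗ[K] V, Commute f (y ^ m) →
      (∀ a ∈ A, f a ∈ A) ∧ (∀ b ∈ B, f b ∈ B) ∧ ∀ b ∈ B, f (y b) = y (f b)

/-- the small polynomials -/
def Sml (L : ℕ) (s : K[X]) : Set K[X] := {f | Irr' f ∧ (f.natDegree < L ∨ f ∣ s)}

end

end Cfsg.Agent.H141.Rg
end

-- part: H141/Rg/Act
section
set_option linter.all false

/-!
# S5714: the actions of the classical groups, and the wanted bounds as definitions
-/

set_option autoImplicit false

namespace Cfsg.Agent.H141.Rg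

open Cfsg Polynomial Module

/-- matrices acting on column vectors -/
noncomputable def matAct (ι : Type) [Fintype ι] [DecidableEq ι] (F : Type) [Field F] :
    Matrix ι ι F →* ((ι → F) →ₗ[F] (ι → F)) where
  toFun := Matrix.toLin'
  map_one' := Matrix.toLin'_one
  map_mul' := Matrix.toLin'_mul

/-- `GL_n(F)` -/
noncomputable def glAct (n : ℕ) (F : Type) [Field F] : GL (Fin n) F →* ((Fin n → F) →ₗ[F] (Fin n → F)) :=
  (matAct (Fin n) F).comp (Units.coeHom _)

/-- `SL_n(F)` -/
noncomputable def slAct (n : ℕ) (F : Type) [Field F] :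
    Matrix.SpecialLinearGroup (Fin n) F →* ((Fin n → F) →ₗ[F] (Fin n → F)) :=
  (glAct n F).comp Matrix.SpecialLinearGroup.toGL

/-- `GU_n(q)` -/
noncomputable def guAct (n : ℕ) (F : Type) [Field F] (q : ℕ) : GU n F q →* ((Fin n → F) →ₗ[F] (Fin n → F)) :=
  (glAct n F).comp (GU n F q).subtype

/-- `SU_n(q)` -/
noncomputable def suAct (n : ℕ) (F : Type) [Field F] (q : ℕ) : SU n F q →* ((Fin n → F) →ₗ[F] (Fin n → F)) :=
  (slAct n F).comp (SU n F q).subtype

/-- `Sp_2m(F)` -/
noncomputable def spAct (m : ℕ) (F : Type) [Field F] :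
    Matrix.symplecticGroup (Fin m) F →* ((Fin m ⊕ Fin m → F) →ₗ[F] (Fin m ⊕ Fin m → F)) :=
  (matAct (Fin m ⊕ Fin m) F).comp (Matrix.symplecticGroup (Fin m) F).subtype

/-- isometry groups of quadratic forms -/
noncomputable def isoAct {ι : Type} [Fintype ι] [DecidableEq ι] (F : Type) [Field F] (Q : (ι → F) → F) :
    isometryGroup F Q →* ((ι → F) →ₗ[F] (ι → F)) :=
  (matAct ι F).comp ((Units.coeHom _).comp (isometryGroup F Q).subtype)

/-- `Ω(Q)` -/
noncomputable def omAct {ι : Type} [Fintype ι] [DecidableEq ι] (F : Type) [Field F] (Q : (ι → F) → F) :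
    Omega F Q →* ((ι → F) →ₗ[F] (ι → F)) :=
  (isoAct F Q).comp (Omega F Q).subtype

section

variable {K V : Type*} [Field K] [AddCommGroup V] [Module K V]

/-- the bound for the powers of `X - 1` and `X + 1` (orthogonal groups) -/
def ELpm {X : Type*} [Group X] (τ : X →* (V →ₗ[K] V)) (c : ℕ → ℝ) : Prop :=
  ∀ (j : ℕ) (a : K), 1 ≤ j → a = 1 ∨ a = -1 →
    (Nat.card {p : X × V // Ann (τ p.1) p.2 ((Polynomial.X - C a) ^ j)} : ℝ) ≤
      c j * (Nat.card K * Real.sqrt ((Nat.card K : ℝ) ^ j)) * Nat.card X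

/-- sharper bounds for `j = 1, 2, 3` (orthogonal groups) -/
def ELsh {X : Type*} [Group X] (τ : X →* (V →ₗ[K] V)) (c : ℝ) : Prop :=
  ∀ (a : K), a = 1 ∨ a = -1 →
    (Nat.card {p : X × V // Ann (τ p.1) p.2 (Polynomial.X - C a)} : ℝ) ≤ c * Nat.card K * Nat.card X ∧
    (Nat.card {p : X × V // Ann (τ p.1) p.2 ((Polynomial.X - C a) ^ 3)} : ℝ) ≤ c * Nat.card K ^ 2 * Nat.card X ∧
    ((2 : K) ≠ 0 → (Nat.card {p : X × V // Ann (τ p.1) p.2 ((Polynomial.X - C a) ^ 2)} : ℝ) ≤
      c * Nat.card K * Nat.card X)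

end

end Cfsg.Agent.H141.Rg
end

-- part: H262/Rx/Red4
section
prune_inst 0x2000000002000000000000000000000000050000000000000005020000000000000040048004000000000008000000000000800000000000000000000400000000100410000000000000000000000000000000000000000000000000000004000000000
set_option linter.all false
open scoped Cfsg.Agent.FastGrp

-- part: H262/Rx/Red1
section
/-!
# S5716, reducible part: fixed subspaces by orbits of vectors (helper262)

`ρ : Y →* End V`, `W0` a subspace, `W0.map (ρ y)` its translates.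

* `card_mul_le` : `#{y | f y ∈ A} * |range f| ≤ |A| * |Y|` for an orbit map `f`;
* `card_common_le` : the number of `z` with a common invariant translate with `x` is at most the number of `y` with
  `W0.map (ρ y)` invariant under `x`;
* `card_noneig` : at least a quarter of the vectors of a subspace are not eigenvectors;
* `card_fix_le` : the number of `y` with `W0.map (ρ y)` invariant under `x` and not in an eigenspace.
-/

set_option autoImplicit false
set_option linter.unusedSectionVars false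
set_option linter.unusedVariables false

namespace Cfsg.Agent.H262.Rx

open Module

universe u v w

section Orb

variable {Y : Type u} [Group Y] [Finite Y] {Z : Type v}

/-- orbit maps of left actions -/
theorem card_mul_le (f : Y → Z) (hf : ∀ a b c : Y, f a = f b → f (c * a) = f (c * b)) (A : Set Z) (hA : A.Finite) :
    Nat.card {y // f y ∈ A} * Nat.card (Set.range f) ≤ Nat.card A * Nat.card Y := by
  classical
  have : Finite A := hA
  have : Finite (Set.range f) := Set.finite_range f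
  rw [← Nat.card_prod, ← Nat.card_prod]
  let s : Set.range f → Y := fun u => Classical.choose u.2
  have hs : ∀ u : Set.range f, f (s u) = u := fun u => Classical.choose_spec u.2
  let g : {y // f y ∈ A} × Set.range f → A × Y := fun p =>
    (⟨f p.1.1, p.1.2⟩, s p.2 * (s ⟨f p.1.1, p.1.1, rfl⟩)⁻¹ * p.1.1)
  refine Nat.card_le_card_of_injective g ?_
  have key : ∀ p : {y // f y ∈ A} × Set.range f, f (g p).2 = p.2 := by
    intro p
    have h1 : f p.1.1 = f (s ⟨f p.1.1, p.1.1, rfl⟩) := (hs ⟨f p.1.1, p.1.1, rfl⟩).symm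
    have h2 := hf _ _ (s p.2 * (s ⟨f p.1.1, p.1.1, rfl⟩)⁻¹) h1
    rw [inv_mul_cancel_right] at h2
    exact h2.trans (hs _)
  intro p r hpr
  have h1 : f p.1.1 = f r.1.1 := congrArg (fun t => (t.1 : Z)) hpr
  have h2 : (g p).2 = (g r).2 := congrArg Prod.snd hpr
  have h3 : p.2 = r.2 := Subtype.ext ((key p).symm.trans ((congrArg f h2).trans (key r)))
  have h4 : p.1.1 = r.1.1 := by
    simp only [g] at h2
    have h5 : (⟨f p.1.1, p.1.1, rfl⟩ : Set.range f) = ⟨f r.1.1, r.1.1, rfl⟩ := Subtype.ext h1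
    rw [h3, h5] at h2
    exact mul_left_cancel h2
  exact Prod.ext (Subtype.ext h4) h3

/-- orbit maps of right actions -/
theorem card_mul_le' (f : Y → Z) (hf : ∀ a b c : Y, f a = f b → f (a * c) = f (b * c)) (A : Set Z) (hA : A.Finite) :
    Nat.card {y // f y ∈ A} * Nat.card (Set.range f) ≤ Nat.card A * Nat.card Y := by
  have h := card_mul_le (fun y => f y⁻¹) (fun a b c hab => by
    rw [mul_inv_rev, mul_inv_rev]; exact hf _ _ _ hab) A hA
  have h1 : Nat.card {y // f y⁻¹ ∈ A} = Nat.card {y // f y ∈ A} :=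
    Nat.card_congr ((Equiv.inv Y).subtypeEquiv fun y => Iff.rfl)
  have h2 : Set.range (fun y : Y => f y⁻¹) = Set.range f := by
    ext z
    constructor
    · rintro ⟨y, rfl⟩
      exact ⟨_, rfl⟩
    · rintro ⟨y, rfl⟩
      exact ⟨y⁻¹, by simp⟩
  rw [h1, h2] at h
  exact h

end Orb

variable {K : Type u} {V : Type v} [Field K] [AddCommGroup V] [Module K V] [Finite V] [Finite K]
variable {Y : Type w} [Group Y] [Finite Y] (ρ : Y →* (V →ₗ[K] V)) (W0 : Submodule K V)

theorem rho_inj (y : Y) : Function.Injective (ρ y) := by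
  intro a b h
  have h1 : ρ y⁻¹ (ρ y a) = ρ y⁻¹ (ρ y b) := by rw [h]
  have h2 : ∀ c : V, ρ y⁻¹ (ρ y c) = c := by
    intro c
    rw [← Module.End.mul_apply, ← map_mul, inv_mul_cancel, map_one]
    rfl
  rwa [h2, h2] at h1

theorem rho_mul (a b : Y) (v : V) : ρ (a * b) v = ρ a (ρ b v) := by
  rw [map_mul]
  rfl

theorem map_mul_rho (a b : Y) : W0.map (ρ (a * b)) = (W0.map (ρ b)).map (ρ a) := by
  rw [← Submodule.map_comp, map_mul]
  rfl

theorem map_eq_of_le (a : Y) {W : Submodule K V} (h : W.map (ρ a) ≤ W) : W.map (ρ a) = W := by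
  apply Submodule.eq_of_le_of_finrank_eq h
  exact (Submodule.equivMapOfInjective (ρ a) (rho_inj ρ a) W).finrank_eq.symm

/-- the number of `z` with a common invariant translate with `x` -/
theorem card_common_le {X : Type*} [Group X] [Finite X] (i : X →* Y) (hi : Function.Injective i) (x : Y) :
    Nat.card {z : X // ∃ y : Y, (W0.map (ρ y)).map (ρ x) ≤ W0.map (ρ y) ∧
      (W0.map (ρ y)).map (ρ (i z)) ≤ W0.map (ρ y)} ≤
    Nat.card {y : Y // (W0.map (ρ y)).map (ρ x) ≤ W0.map (ρ y)} := by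
  classical
  let rep : Submodule K V → Y := fun W => if h : ∃ y, W0.map (ρ y) = W then Classical.choose h else 1
  have hrep : ∀ y : Y, W0.map (ρ (rep (W0.map (ρ y)))) = W0.map (ρ y) := by
    intro y
    have h : ∃ y', W0.map (ρ y') = W0.map (ρ y) := ⟨y, rfl⟩
    simp only [rep, dif_pos h]
    exact Classical.choose_spec h
  let g : {z : X // ∃ y : Y, (W0.map (ρ y)).map (ρ x) ≤ W0.map (ρ y) ∧
      (W0.map (ρ y)).map (ρ (i z)) ≤ W0.map (ρ y)} → Y := fun z => i z.1 * rep (W0.map (ρ (Classical.choose z.2)))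
  have hg : ∀ z, W0.map (ρ (g z)) = W0.map (ρ (Classical.choose z.2)) := by
    intro z
    have h := Classical.choose_spec z.2
    simp only [g]
    rw [map_mul_rho, hrep]
    exact map_eq_of_le ρ _ h.2
  refine Nat.card_le_card_of_injective (fun z => ⟨g z, ?_⟩) ?_
  · rw [hg]
    exact (Classical.choose_spec z.2).1
  · intro z z' hz
    have h1 : g z = g z' := congrArg Subtype.val hz
    have h2 : W0.map (ρ (Classical.choose z.2)) = W0.map (ρ (Classical.choose z'.2)) := by
      rw [← hg, ← hg, h1]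
    simp only [g, h2] at h1
    exact Subtype.ext (hi (mul_right_cancel h1))

/-- eigenvectors (zero included) -/
def Eg (x : V →ₗ[K] V) (v : V) : Prop := ∃ l : K, x v = l • v

/-- at least a quarter of the vectors are not eigenvectors -/
theorem card_noneig (x : V →ₗ[K] V) (U : Submodule K V) (hU : ¬ ∃ l : K, ∀ v ∈ U, x v = l • v) :
    Nat.card U ≤ 4 * Nat.card {v : U // ¬ Eg x v} := by
  classical
  have hsplit : Nat.card U = Nat.card {v : U // Eg x v} + Nat.card {v : U // ¬ Eg x v} := by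
    rw [← Nat.card_sum]
    exact (Nat.card_congr (Equiv.sumCompl fun v : U => Eg x v)).symm
  by_cases h0 : ∀ v ∈ U, Eg x v → v = 0
  · have h1 : Nat.card {v : U // Eg x v} ≤ 1 := by
      rw [Finite.card_le_one_iff_subsingleton]
      refine ⟨fun a b => Subtype.ext (Subtype.ext ?_)⟩
      rw [h0 _ a.1.2 a.2, h0 _ b.1.2 b.2]
    have h2 : 2 ≤ Nat.card U := by
      by_contra hc
      have h3 : Subsingleton U := Finite.card_le_one_iff_subsingleton.1 (by omega)
      apply hU
      refine ⟨0, fun v hv => ?_⟩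
      have : (⟨v, hv⟩ : U) = 0 := Subsingleton.elim _ _
      have h4 : v = 0 := congrArg Subtype.val this
      rw [h4, map_zero, smul_zero]
    omega
  · push Not at h0
    obtain ⟨e, heU, ⟨l, hl⟩, he0⟩ := h0
    -- the eigenspace for `l` inside `U`
    let E : Submodule K V := U ⊓ LinearMap.ker (x - l • LinearMap.id)
    have hE : ∀ v, v ∈ E ↔ v ∈ U ∧ x v = l • v := by
      intro v
      simp only [E, Submodule.mem_inf, LinearMap.mem_ker, LinearMap.sub_apply, LinearMap.smul_apply, LinearMap.id_apply,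
        sub_eq_zero]
    let EU : Submodule K U := E.comap U.subtype
    have hEU : ∀ v : U, v ∈ EU ↔ x v = l • (v : V) := by
      intro v
      change (v : V) ∈ E ↔ _
      rw [hE]
      exact ⟨fun h => h.2, fun h => ⟨v.2, h⟩⟩
    have hfq : Finite (U ⧸ EU) := Finite.of_surjective _ (Submodule.mkQ_surjective EU)
    have hc1 : Nat.card U = Nat.card EU * Nat.card (U ⧸ EU) := by
      have := Submodule.card_eq_card_quotient_mul_card EU
      rw [this, mul_comm]
    have ha : 2 ≤ Nat.card EU := by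
      by_contra hc
      have h3 : Subsingleton EU := Finite.card_le_one_iff_subsingleton.1 (by omega)
      have h4 : (⟨⟨e, heU⟩, (hEU _).2 hl⟩ : EU) = 0 := Subsingleton.elim _ _
      exact he0 (congrArg (fun t : EU => ((t : U) : V)) h4)
    have hb : 2 ≤ Nat.card (U ⧸ EU) := by
      by_contra hc
      have h3 : Subsingleton (U ⧸ EU) := Finite.card_le_one_iff_subsingleton.1 (by omega)
      exact hU ⟨l, fun v hv => (hEU ⟨v, hv⟩).1 ((Submodule.Quotient.mk_eq_zero EU).1 (Subsingleton.elim _ _))⟩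
    -- the eigenvectors outside of `E` inject into the nonzero cosets
    have h1 : Nat.card {v : U // Eg x v} ≤ Nat.card EU + (Nat.card (U ⧸ EU) - 1) := by
      have h2 : Nat.card {v : U // Eg x v} = Nat.card {v : {v : U // Eg x v} // v.1 ∈ EU} +
          Nat.card {v : {v : U // Eg x v} // v.1 ∉ EU} := by
        rw [← Nat.card_sum]
        exact (Nat.card_congr (Equiv.sumCompl fun v : {v : U // Eg x v} => v.1 ∈ EU)).symm
      have h3 : Nat.card {v : {v : U // Eg x v} // v.1 ∈ EU} ≤ Nat.card EU :=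
        Nat.card_le_card_of_injective (fun v => ⟨v.1.1, v.2⟩) fun a b hab =>
          Subtype.ext (Subtype.ext (congrArg (fun t : EU => (t : U)) hab))
      have h4 : Nat.card {v : {v : U // Eg x v} // v.1 ∉ EU} ≤ Nat.card {t : U ⧸ EU // t ≠ 0} := by
        refine Nat.card_le_card_of_injective (fun v => ⟨Submodule.Quotient.mk v.1.1, ?_⟩) ?_
        · rw [ne_eq, Submodule.Quotient.mk_eq_zero]
          exact v.2
        · intro a b hab
          have h5 : (Submodule.Quotient.mk a.1.1 : U ⧸ EU) = Submodule.Quotient.mk b.1.1 := congrArg Subtype.val hab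
          rw [Submodule.Quotient.eq, hEU] at h5
          obtain ⟨m, hm⟩ := a.1.2
          obtain ⟨m', hm'⟩ := b.1.2
          have ha' : x a.1.1 ≠ l • (a.1.1 : V) := fun h => a.2 ((hEU _).2 h)
          have hml : m ≠ l := fun h => ha' (h ▸ hm)
          rw [Submodule.coe_sub, map_sub, hm, hm'] at h5
          -- (m - l) a = (m' - l) b
          have h6 : (m - l) • (a.1.1 : V) = (m' - l) • (b.1.1 : V) := by
            rw [sub_smul, sub_smul]
            rw [smul_sub] at h5
            rw [sub_eq_iff_eq_add] at h5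
            rw [h5]
            abel
          have hml' : m' ≠ l := by
            rintro rfl
            rw [sub_self, zero_smul, smul_eq_zero] at h6
            rcases h6 with h6 | h6
            · exact hml (sub_eq_zero.1 h6)
            · apply ha'
              rw [h6, map_zero, smul_zero]
          -- a = c b
          have h7 : (a.1.1 : V) = ((m - l)⁻¹ * (m' - l)) • (b.1.1 : V) := by
            rw [mul_smul, ← h6, smul_smul, inv_mul_cancel₀ (sub_ne_zero.2 hml), one_smul]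
          set c := (m - l)⁻¹ * (m' - l) with hc
          have hb0 : x b.1.1 ≠ l • (b.1.1 : V) := fun h => b.2 ((hEU _).2 h)
          -- a - b = (c - 1) b is in E
          have h8 : (c - 1) • (m' - l) • (b.1.1 : V) = 0 := by
            have h9 : x ((c - 1) • (b.1.1 : V)) = l • ((c - 1) • (b.1.1 : V)) := by
              have h10 : (c - 1) • (b.1.1 : V) = (a.1.1 : V) - b.1.1 := by rw [sub_smul, one_smul, ← h7]
              rw [h10, map_sub, hm, hm', smul_sub]
              rw [smul_sub] at h5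
              exact h5
            rw [map_smul, hm'] at h9
            rw [sub_smul (m') l, smul_sub, h9, smul_comm l (c - 1), sub_self]
          have hb1 : (b.1.1 : V) ≠ 0 := fun h => hb0 (by rw [h, map_zero, smul_zero])
          rw [smul_smul, smul_eq_zero, mul_eq_zero, sub_eq_zero, sub_eq_zero] at h8
          rcases h8 with (h8 | h8) | h8
          · rw [h8, one_smul] at h7
            exact Subtype.ext (Subtype.ext (Subtype.ext h7))
          · exact absurd h8 hml'
          · exact absurd h8 hb1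
      have h5 : Nat.card {t : U ⧸ EU // t ≠ 0} + 1 = Nat.card (U ⧸ EU) := by
        have h6 : Nat.card (U ⧸ EU) = Nat.card {t : U ⧸ EU // t = 0} + Nat.card {t : U ⧸ EU // t ≠ 0} := by
          rw [← Nat.card_sum]
          exact (Nat.card_congr (Equiv.sumCompl fun t : U ⧸ EU => t = 0)).symm
        have h7 : Nat.card {t : U ⧸ EU // t = 0} = 1 := Nat.card_unique
        omega
      omega
    obtain ⟨a, ha'⟩ := Nat.exists_eq_add_of_le ha
    obtain ⟨b, hb'⟩ := Nat.exists_eq_add_of_le hb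
    rw [ha', hb'] at hc1
    rw [ha', hb', show 2 + b - 1 = 1 + b by omega] at h1
    linarith only [hsplit, h1, hc1, Nat.zero_le (a * b)]

/-- the number of translates in a subspace -/
theorem card_sub_le {M1 : ℕ} {w : V} (hw : w ∈ W0) (hM : M1 ≤ Nat.card (Set.range fun y : Y => ρ y w))
    (E : Submodule K V) : Nat.card {y : Y // W0.map (ρ y) ≤ E} * M1 ≤ Nat.card E * Nat.card Y := by
  have h1 := card_mul_le (fun y : Y => ρ y w) (fun a b c h => by
    rw [rho_mul, rho_mul]
    exact congrArg _ h) (E : Set V) (Set.toFinite _)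
  refine (Nat.mul_le_mul ?_ hM).trans h1
  refine Nat.card_le_card_of_injective (fun y => ⟨y.1, ?_⟩) fun a b hab =>
    Subtype.ext (by have h := congrArg Subtype.val hab; exact h)
  exact y.2 ⟨w, hw, rfl⟩

/-- the number of translates in the kernel of a functional -/
theorem card_ker_le (c : V →ₗ[K] K) : Nat.card {y : Y // W0.map (ρ y) ≤ LinearMap.ker c} *
      Nat.card (Set.range fun y : Y => c ∘ₗ ρ y) ≤
    Nat.card {d : V →ₗ[K] K // (∃ y, d = c ∘ₗ ρ y) ∧ W0 ≤ LinearMap.ker d} * Nat.card Y := by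
  have hfin : Finite (V →ₗ[K] K) := DFunLike.finite _
  have h1 := card_mul_le' (fun y : Y => c ∘ₗ ρ y) (fun a b d h => by
    change c ∘ₗ ρ a = c ∘ₗ ρ b at h
    change c ∘ₗ ρ (a * d) = c ∘ₗ ρ (b * d)
    rw [map_mul, map_mul]
    change (c ∘ₗ ρ a) ∘ₗ ρ d = (c ∘ₗ ρ b) ∘ₗ ρ d
    rw [h]) {d | (∃ y, d = c ∘ₗ ρ y) ∧ W0 ≤ LinearMap.ker d} (Set.toFinite _)
  refine (Nat.mul_le_mul_right _ ?_).trans h1
  refine Nat.card_le_card_of_injective (fun y => ⟨y.1, ⟨y.1, rfl⟩, ?_⟩)
    fun a b hab => Subtype.ext (by have h := congrArg Subtype.val hab; exact h)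
  intro v hv
  exact y.2 ⟨v, hv, rfl⟩

/-- the orbit of `u` under the stabiliser of `v` -/
def sOrb (v u : V) : Set V := {u' | ∃ s : Y, ρ s v = v ∧ ρ s u = u'}

/-- invariant translates outside of the eigenspaces -/
theorem card_fix_le (x : Y) {M2 : ℕ}
    (hM : ∀ v u : V, v ≠ 0 → (¬ ∃ l : K, u = l • v) → (∃ y : Y, v ∈ W0.map (ρ y) ∧ u ∈ W0.map (ρ y)) →
      M2 ≤ Nat.card (sOrb ρ v u)) :
    Nat.card {y : Y // (W0.map (ρ y)).map (ρ x) ≤ W0.map (ρ y) ∧ ¬ ∃ l : K, ∀ v ∈ W0.map (ρ y), ρ x v = l • v} * M2 ≤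
      4 * (Nat.card Y * Nat.card W0) := by
  classical
  set T := {y : Y // (W0.map (ρ y)).map (ρ x) ≤ W0.map (ρ y) ∧ ¬ ∃ l : K, ∀ v ∈ W0.map (ρ y), ρ x v = l • v} with hT
  -- for a fixed vector of `W0`
  have key : ∀ w : W0, Nat.card {y : Y // ¬ Eg (ρ x) (ρ y w) ∧ ρ x (ρ y w) ∈ W0.map (ρ y)} * M2 ≤
      Nat.card Y * Nat.card W0 := by
    intro w
    let A := {y : Y // ¬ Eg (ρ x) (ρ y w) ∧ ρ x (ρ y w) ∈ W0.map (ρ y)}
    have h1 : Nat.card A * M2 ≤ Nat.card (Σ y : A, sOrb ρ (ρ y.1 w) (ρ x (ρ y.1 w))) := by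
      have hfa : ∀ y : A, Finite (sOrb ρ (ρ y.1 w) (ρ x (ρ y.1 w))) := fun _ => inferInstance
      have := Fintype.ofFinite A
      rw [Nat.card_sigma, Nat.card_eq_fintype_card, ← smul_eq_mul, ← Finset.card_univ]
      refine Finset.card_nsmul_le_sum _ _ _ fun y _ => ?_
      refine hM _ _ ?_ ?_ ?_
      · intro h0
        apply y.2.1
        exact ⟨0, by rw [h0, map_zero, smul_zero]⟩
      · exact y.2.1
      · exact ⟨y.1, ⟨w, w.2, rfl⟩, y.2.2⟩
    refine h1.trans ?_
    rw [← Nat.card_prod]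
    -- a choice of stabilising elements
    let s : V → V → V → Y := fun v u u' => if h : ∃ s : Y, ρ s v = v ∧ ρ s u = u' then Classical.choose h else 1
    have hs : ∀ v u u', (∃ s : Y, ρ s v = v ∧ ρ s u = u') → ρ (s v u u') v = v ∧ ρ (s v u u') u = u' := by
      intro v u u' h
      simp only [s, dif_pos h]
      exact Classical.choose_spec h
    have hw : ∀ p : (Σ y : A, sOrb ρ (ρ y.1 w) (ρ x (ρ y.1 w))), ∃ t : W0,
        ρ (s (ρ p.1.1 w) (ρ x (ρ p.1.1 w)) p.2 * p.1.1) t = p.2 := by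
      rintro ⟨y, u', hu'⟩
      obtain ⟨t, ht, ht'⟩ := y.2.2
      refine ⟨⟨t, ht⟩, ?_⟩
      rw [rho_mul]
      change ρ _ (ρ y.1 t) = u'
      rw [ht']
      exact (hs _ _ _ hu').2
    choose t ht using hw
    refine Nat.card_le_card_of_injective
      (fun p => (s (ρ p.1.1 w) (ρ x (ρ p.1.1 w)) p.2 * p.1.1, t p)) ?_
    rintro p r hpr
    have e1 : s (ρ p.1.1 w) (ρ x (ρ p.1.1 w)) p.2 * p.1.1 = s (ρ r.1.1 w) (ρ x (ρ r.1.1 w)) r.2 * r.1.1 :=
      congrArg Prod.fst hpr
    have e2 : t p = t r := congrArg Prod.snd hpr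
    have e3 : (p.2 : V) = r.2 := by rw [← ht p, ← ht r, e1, e2]
    have e4 : ρ p.1.1 w = ρ r.1.1 w := by
      have f1 : ρ (s (ρ p.1.1 w) (ρ x (ρ p.1.1 w)) p.2 * p.1.1) w = ρ p.1.1 w := by
        rw [rho_mul]
        exact (hs _ _ _ p.2.2).1
      have f2 : ρ (s (ρ r.1.1 w) (ρ x (ρ r.1.1 w)) r.2 * r.1.1) w = ρ r.1.1 w := by
        rw [rho_mul]
        exact (hs _ _ _ r.2.2).1
      rw [← f1, ← f2, e1]
    rw [e3, e4] at e1
    have e5 : p.1.1 = r.1.1 := mul_left_cancel e1
    obtain ⟨⟨py, hpy⟩, ⟨pu, hpu⟩⟩ := p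
    obtain ⟨⟨ry, hry⟩, ⟨ru, hru⟩⟩ := r
    simp only at e5 e3
    subst e5
    subst e3
    rfl
  -- sum over the vectors
  have h2 : Nat.card T * Nat.card W0 ≤ 4 * Nat.card (Σ w : W0, {y : Y // ¬ Eg (ρ x) (ρ y w) ∧ ρ x (ρ y w) ∈ W0.map (ρ y)}) := by
    have h3 : Nat.card (Σ y : T, {w : W0 // ¬ Eg (ρ x) (ρ y.1 w)}) ≤
        Nat.card (Σ w : W0, {y : Y // ¬ Eg (ρ x) (ρ y w) ∧ ρ x (ρ y w) ∈ W0.map (ρ y)}) := by
      refine Nat.card_le_card_of_injective (fun p => ⟨p.2.1, p.1.1, p.2.2, ?_⟩) ?_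
      · exact p.1.2.1 ⟨_, ⟨_, p.2.1.2, rfl⟩, rfl⟩
      · rintro ⟨⟨y, hy⟩, ⟨w, hw⟩⟩ ⟨⟨y', hy'⟩, ⟨w', hw'⟩⟩ h
        simp only [Sigma.mk.injEq] at h
        obtain ⟨h1, h2⟩ := h
        subst h1
        have h3 := congrArg Subtype.val (eq_of_heq h2)
        simp only at h3
        subst h3
        rfl
    have h4 : Nat.card T * Nat.card W0 ≤ 4 * Nat.card (Σ y : T, {w : W0 // ¬ Eg (ρ x) (ρ y.1 w)}) := by
      have := Fintype.ofFinite T
      rw [Nat.card_sigma, Nat.card_eq_fintype_card, Finset.mul_sum, ← Finset.card_univ, ← smul_eq_mul]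
      refine Finset.card_nsmul_le_sum _ _ _ fun y _ => ?_
      have h5 := card_noneig (ρ x) (W0.map (ρ y.1)) y.2.2
      let e := Submodule.equivMapOfInjective (ρ y.1) (rho_inj ρ y.1) W0
      rw [← Nat.card_congr e.toEquiv] at h5
      refine h5.trans (Nat.mul_le_mul_left _ (le_of_eq ?_))
      exact (Nat.card_congr (e.toEquiv.subtypeEquiv fun w => Iff.rfl)).symm
    exact h4.trans (Nat.mul_le_mul_left _ h3)
  have h6 : Nat.card (Σ w : W0, {y : Y // ¬ Eg (ρ x) (ρ y w) ∧ ρ x (ρ y w) ∈ W0.map (ρ y)}) * M2 ≤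
      Nat.card W0 * (Nat.card Y * Nat.card W0) := by
    have := Fintype.ofFinite W0
    rw [Nat.card_sigma, Finset.sum_mul]
    refine (Finset.sum_le_card_nsmul _ _ _ fun w _ => key w).trans ?_
    rw [Finset.card_univ, ← Nat.card_eq_fintype_card, smul_eq_mul]
  have hpos : 0 < Nat.card W0 := Nat.card_pos
  have h7 : Nat.card W0 * (Nat.card T * M2) ≤ Nat.card W0 * (4 * (Nat.card Y * Nat.card W0)) := by
    calc Nat.card W0 * (Nat.card T * M2) = (Nat.card T * Nat.card W0) * M2 := by ring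
      _ ≤ _ := Nat.mul_le_mul_right _ h2
      _ = 4 * (Nat.card (Σ w : W0, {y : Y // ¬ Eg (ρ x) (ρ y w) ∧ ρ x (ρ y w) ∈ W0.map (ρ y)}) * M2) := by ring
      _ ≤ _ := Nat.mul_le_mul_left _ h6
      _ = _ := by ring
  exact Nat.le_of_mul_le_mul_left h7 hpos

end Cfsg.Agent.H262.Rx
end

-- part: H262/Rx/Red2
section
/-!
# S5716, reducible part: the number of translates fixed by a nonscalar element (helper262)
-/

set_option autoImplicit false
set_option linter.unusedSectionVars false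
set_option linter.unusedVariables false

namespace Cfsg.Agent.H262.Rx

open Module

universe u v w

variable {K : Type u} {V : Type v} [Field K] [AddCommGroup V] [Module K V] [Finite V] [Finite K]
variable {Y : Type w} [Group Y] [Finite Y] (ρ : Y →* (V →ₗ[K] V)) (W0 : Submodule K V)

/-- the eigenspace -/
def Es (x : V →ₗ[K] V) (l : K) : Submodule K V := LinearMap.ker (x - l • LinearMap.id)

theorem mem_Es {x : V →ₗ[K] V} {l : K} {v : V} : v ∈ Es x l ↔ x v = l • v := by
  simp only [Es, LinearMap.mem_ker, LinearMap.sub_apply, LinearMap.smul_apply, LinearMap.id_apply, sub_eq_zero]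

/-- two different eigenspaces are independent -/
theorem finrank_Es_add {x : V →ₗ[K] V} {l m : K} (h : l ≠ m) : finrank K (Es x l) + finrank K (Es x m) ≤ finrank K V := by
  have h1 : Disjoint (Es x l) (Es x m) := by
    rw [Submodule.disjoint_def]
    intro v hl hm
    rw [mem_Es] at hl hm
    have h2 : (l - m) • v = 0 := by rw [sub_smul, ← hl, ← hm, sub_self]
    exact (smul_eq_zero.1 h2).resolve_left (sub_ne_zero.2 h)
  have : FiniteDimensional K V := Module.Finite.of_finite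
  exact Submodule.finrank_add_finrank_le_of_disjoint h1

/-- a proper subspace lies in the kernel of a nonzero functional -/
theorem exists_ker {E : Submodule K V} (hE : E ≠ ⊤) : ∃ c : V →ₗ[K] K, c ≠ 0 ∧ E ≤ LinearMap.ker c := by
  obtain ⟨c, hc, hc'⟩ := Submodule.exists_le_ker_of_lt_top E (lt_top_iff_ne_top.2 hE)
  exact ⟨c, hc, hc'⟩

/-- **the number of translates fixed by `x`** -/
theorem fix_le (x : Y) (hx : ¬ ∃ l : K, ∀ v, ρ x v = l • v) {M1 M2 : ℕ} (hM1 : 0 < M1) (hM2 : 0 < M2)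
    (h1 : ∃ w ∈ W0, M1 ≤ Nat.card (Set.range fun y : Y => ρ y w))
    (h2 : ∀ v u : V, v ≠ 0 → (¬ ∃ l : K, u = l • v) → (∃ y : Y, v ∈ W0.map (ρ y) ∧ u ∈ W0.map (ρ y)) →
      M2 ≤ Nat.card (sOrb ρ v u)) {p : ℝ} (hp : 0 ≤ p)
    (h3 : ∀ c : V →ₗ[K] K, c ≠ 0 → (Nat.card {y : Y // W0.map (ρ y) ≤ LinearMap.ker c} : ℝ) ≤ p * Nat.card Y) :
    (Nat.card {y : Y // (W0.map (ρ y)).map (ρ x) ≤ W0.map (ρ y)} : ℝ) ≤
      ((Nat.card K : ℝ) * (Nat.card K : ℝ) ^ (finrank K V / 2) / M1 + p + 4 * Nat.card W0 / M2) * Nat.card Y := by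
  classical
  have hfd : FiniteDimensional K V := Module.Finite.of_finite
  have := Fintype.ofFinite K
  have hM1' : (0 : ℝ) < M1 := by exact_mod_cast hM1
  have hM2' : (0 : ℝ) < M2 := by exact_mod_cast hM2
  set n := finrank K V with hn
  -- the splitting
  have hsplit : (Nat.card {y : Y // (W0.map (ρ y)).map (ρ x) ≤ W0.map (ρ y)} : ℝ) ≤
      ∑ l : K, (Nat.card {y : Y // W0.map (ρ y) ≤ Es (ρ x) l} : ℝ) +
      (Nat.card {y : Y // (W0.map (ρ y)).map (ρ x) ≤ W0.map (ρ y) ∧ ¬ ∃ l : K, ∀ v ∈ W0.map (ρ y), ρ x v = l • v} : ℝ) := by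
    have h4 : Nat.card {y : Y // (W0.map (ρ y)).map (ρ x) ≤ W0.map (ρ y)} ≤
        Nat.card ((Σ l : K, {y : Y // W0.map (ρ y) ≤ Es (ρ x) l}) ⊕
          {y : Y // (W0.map (ρ y)).map (ρ x) ≤ W0.map (ρ y) ∧ ¬ ∃ l : K, ∀ v ∈ W0.map (ρ y), ρ x v = l • v}) := by
      have hch : ∀ y : {y : Y // (W0.map (ρ y)).map (ρ x) ≤ W0.map (ρ y)},
          (∃ l : K, ∀ v ∈ W0.map (ρ y), ρ x v = l • v) → ∃ l : K, W0.map (ρ y.1) ≤ Es (ρ x) l := by
        rintro y ⟨l, hl⟩
        exact ⟨l, fun v hv => mem_Es.2 (hl v hv)⟩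
      refine Nat.card_le_card_of_injective (fun y => if h : ∃ l : K, ∀ v ∈ W0.map (ρ y), ρ x v = l • v then
        Sum.inl ⟨Classical.choose (hch y h), y.1, Classical.choose_spec (hch y h)⟩ else Sum.inr ⟨y.1, y.2, h⟩) ?_
      intro y y' hyy
      by_cases h : ∃ l : K, ∀ v ∈ W0.map (ρ y), ρ x v = l • v
      · by_cases h' : ∃ l : K, ∀ v ∈ W0.map (ρ y'), ρ x v = l • v
        · simp only [dif_pos h, dif_pos h', Sum.inl.injEq, Sigma.mk.injEq] at hyy
          obtain ⟨e1, e2⟩ := hyy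
          apply Subtype.ext
          have key : ∀ (l l' : K) (a : {y : Y // W0.map (ρ y) ≤ Es (ρ x) l}) (b : {y : Y // W0.map (ρ y) ≤ Es (ρ x) l'}),
              l = l' → HEq a b → a.1 = b.1 := by
            rintro l l' a b rfl hab
            rw [eq_of_heq hab]
          exact key _ _ _ _ e1 e2
        · simp only [dif_pos h, dif_neg h'] at hyy
          cases hyy
      · by_cases h' : ∃ l : K, ∀ v ∈ W0.map (ρ y'), ρ x v = l • v
        · simp only [dif_neg h, dif_pos h'] at hyy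
          cases hyy
        · simp only [dif_neg h, dif_neg h', Sum.inr.injEq, Subtype.mk.injEq] at hyy
          exact Subtype.ext hyy
    rw [Nat.card_sum, Nat.card_sigma] at h4
    exact_mod_cast h4
  -- outside of the eigenspaces
  have hout : (Nat.card {y : Y // (W0.map (ρ y)).map (ρ x) ≤ W0.map (ρ y) ∧
      ¬ ∃ l : K, ∀ v ∈ W0.map (ρ y), ρ x v = l • v} : ℝ) ≤ 4 * Nat.card W0 / M2 * Nat.card Y := by
    have h5 := card_fix_le ρ W0 x h2
    rw [div_mul_eq_mul_div, le_div_iff₀ hM2']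
    have h6 : ((Nat.card {y : Y // (W0.map (ρ y)).map (ρ x) ≤ W0.map (ρ y) ∧
      ¬ ∃ l : K, ∀ v ∈ W0.map (ρ y), ρ x v = l • v} * M2 : ℕ) : ℝ) ≤ ((4 * (Nat.card Y * Nat.card W0) : ℕ) : ℝ) :=
      Nat.cast_le.2 h5
    push_cast at h6
    linarith only [h6]
  -- small eigenspaces
  have hsmall : ∀ l : K, 2 * finrank K (Es (ρ x) l) ≤ n →
      (Nat.card {y : Y // W0.map (ρ y) ≤ Es (ρ x) l} : ℝ) ≤ (Nat.card K : ℝ) ^ (n / 2) / M1 * Nat.card Y := by
    intro l hl
    obtain ⟨w, hw, hM⟩ := h1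
    have h5 := card_sub_le ρ W0 hw hM (Es (ρ x) l)
    rw [div_mul_eq_mul_div, le_div_iff₀ hM1']
    have h6 : ((Nat.card {y : Y // W0.map (ρ y) ≤ Es (ρ x) l} * M1 : ℕ) : ℝ) ≤
        ((Nat.card (Es (ρ x) l) * Nat.card Y : ℕ) : ℝ) := Nat.cast_le.2 h5
    push_cast at h6
    refine h6.trans (mul_le_mul_of_nonneg_right ?_ (Nat.cast_nonneg _))
    have h7 : Nat.card (Es (ρ x) l) = Nat.card K ^ finrank K (Es (ρ x) l) := Module.natCard_eq_pow_finrank
    rw [h7]
    push_cast
    exact pow_le_pow_right₀ (by exact_mod_cast Nat.card_pos (α := K)) (by omega)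
  have hlarge : ∀ l : K, (Nat.card {y : Y // W0.map (ρ y) ≤ Es (ρ x) l} : ℝ) ≤ p * Nat.card Y := by
    intro l
    obtain ⟨c, hc, hcE⟩ := exists_ker (E := Es (ρ x) l) (fun h => hx ⟨l, fun v => mem_Es.1 (h ▸ Submodule.mem_top)⟩)
    refine le_trans ?_ (h3 c hc)
    have : Nat.card {y : Y // W0.map (ρ y) ≤ Es (ρ x) l} ≤ Nat.card {y : Y // W0.map (ρ y) ≤ LinearMap.ker c} :=
      Nat.card_le_card_of_injective (fun y => ⟨y.1, y.2.trans hcE⟩) fun a b hab =>
        Subtype.ext (by have h := congrArg Subtype.val hab; exact h)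
    exact_mod_cast this
  have hpowY : (0 : ℝ) ≤ (Nat.card K : ℝ) ^ (n / 2) / M1 * Nat.card Y := by (clear * -; positivity)
  have hsum : ∑ l : K, (Nat.card {y : Y // W0.map (ρ y) ≤ Es (ρ x) l} : ℝ) ≤
      (Nat.card K : ℝ) * ((Nat.card K : ℝ) ^ (n / 2) / M1 * Nat.card Y) + p * Nat.card Y := by
    by_cases hb : ∃ l0 : K, n < 2 * finrank K (Es (ρ x) l0)
    · obtain ⟨l0, hl0⟩ := hb
      rw [← Finset.add_sum_erase _ _ (Finset.mem_univ l0)]
      have h8 : ∑ l ∈ Finset.univ.erase l0, (Nat.card {y : Y // W0.map (ρ y) ≤ Es (ρ x) l} : ℝ) ≤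
          (Nat.card K : ℝ) * ((Nat.card K : ℝ) ^ (n / 2) / M1 * Nat.card Y) := by
        refine (Finset.sum_le_card_nsmul _ _ _ fun l hl => hsmall l ?_).trans ?_
        · have h9 := finrank_Es_add (x := ρ x) (Finset.ne_of_mem_erase hl)
          omega
        · rw [nsmul_eq_mul]
          refine mul_le_mul_of_nonneg_right ?_ hpowY
          rw [Nat.card_eq_fintype_card]
          exact_mod_cast (Finset.card_le_univ _)
      linarith only [h8, hlarge l0]
    · push Not at hb
      have h8 : ∑ l : K, (Nat.card {y : Y // W0.map (ρ y) ≤ Es (ρ x) l} : ℝ) ≤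
          (Nat.card K : ℝ) * ((Nat.card K : ℝ) ^ (n / 2) / M1 * Nat.card Y) := by
        refine (Finset.sum_le_card_nsmul _ _ _ fun l _ => hsmall l (hb l)).trans ?_
        rw [nsmul_eq_mul, Finset.card_univ, Nat.card_eq_fintype_card]
      have : 0 ≤ p * Nat.card Y := by (clear * - hp; positivity)
      linarith only [h8, this]
  calc _ ≤ _ := hsplit
    _ ≤ (Nat.card K : ℝ) * ((Nat.card K : ℝ) ^ (n / 2) / M1 * Nat.card Y) + p * Nat.card Y +
        4 * Nat.card W0 / M2 * Nat.card Y := add_le_add hsum hout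
    _ = _ := by ring

end Cfsg.Agent.H262.Rx
end

-- part: H262/Rx/Red3
section
/-!
# S5716, reducible part: the sum over the types (helper262)

* `types_le` : the union over a system of types;
* `cover` : an invariant subspace gives a small one which is totally isotropic or nondegenerate.
-/

set_option autoImplicit false
set_option linter.unusedSectionVars false
set_option linter.unusedVariables false

namespace Cfsg.Agent.H262.Rx

open Module

universe u v w

/-- the numbers -/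
theorem num_types {q Q C1 : ℝ} (hq : 4 ≤ q) (hqQ : q ≤ Q) (hC1 : 0 ≤ C1) {n h : ℕ} (hh : 4 ≤ h) (hn : 2 * h ≤ n) (b : ℕ → ℝ)
    (hb0 : ∀ k, 0 ≤ b k) (hb1 : ∀ k, 1 ≤ k → b k ≤ 6 * (q / 2) ^ (k - 1)) (hb2 : ∀ k, 1 ≤ k → b k ≤ 3 * Q * 2 ^ k) :
    ∑ k ∈ Finset.Icc 1 h, b k * (4 * Q ^ (h + 2) / Q ^ n + C1 / q ^ k + 8 * Q ^ (k + 2) / Q ^ n) ≤
      (12 * C1 + 1200) / q := by
  have hq0 : (0 : ℝ) < q := by linarith only [hq]
  have hQ : 4 ≤ Q := hq.trans hqQ
  have hQ0 : (0 : ℝ) < Q := by linarith only [hq, hqQ]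
  have key : Q ^ 4 * (2 : ℝ) ^ h ≤ 16 * Q ^ h := by
    obtain ⟨j, rfl⟩ := Nat.exists_eq_add_of_le hh
    have h1 : (2 : ℝ) ^ j ≤ Q ^ j := pow_le_pow_left₀ (by norm_num) (by linarith only [hq, hqQ]) j
    rw [pow_add, pow_add]
    have h2 : (0 : ℝ) < Q ^ 4 := by positivity
    nlinarith only [h1, h2]
  have hnpow : Q ^ (2 * h) ≤ Q ^ n := pow_le_pow_right₀ (by linarith only [hq, hqQ]) hn
  have hQn : (0 : ℝ) < Q ^ n := by positivity
  have hQh : (0 : ℝ) < Q ^ h := by positivity
  -- geometric sums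
  have g2 : ∑ k ∈ Finset.Icc 1 h, (2 : ℝ) ^ k ≤ 2 * 2 ^ h := by
    have : ∀ m : ℕ, ∑ k ∈ Finset.Icc 1 m, (2 : ℝ) ^ k ≤ 2 * 2 ^ m := by
      intro m
      induction m with
      | zero => simp
      | succ m ih =>
        rw [Finset.sum_Icc_succ_top (by omega), pow_succ]
        linarith only [ih]
    exact this h
  have g3 : ∑ k ∈ Finset.Icc 1 h, (2 * Q) ^ k ≤ 2 * (2 * Q) ^ h := by
    have : ∀ m : ℕ, ∑ k ∈ Finset.Icc 1 m, (2 * Q) ^ k ≤ 2 * (2 * Q) ^ m := by
      intro m
      induction m with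
      | zero => simp
      | succ m ih =>
        rw [Finset.sum_Icc_succ_top (by omega), pow_succ]
        have h1 : (0 : ℝ) < (2 * Q) ^ m := by positivity
        nlinarith only [hq, hqQ, ih, h1]
    exact this h
  have g1 : ∑ k ∈ Finset.Icc 1 h, (1 / 2 : ℝ) ^ (k - 1) ≤ 2 := by
    have : ∀ m : ℕ, ∑ k ∈ Finset.Icc 1 m, (1 / 2 : ℝ) ^ (k - 1) ≤ 2 - 2 * (1 / 2) ^ m := by
      intro m
      induction m with
      | zero => simp
      | succ m ih =>
        rw [Finset.sum_Icc_succ_top (by omega), pow_succ, Nat.add_sub_cancel]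
        linarith only [ih]
    have h1 : (0 : ℝ) < (1 / 2) ^ h := by positivity
    linarith only [h1, this h]
  -- the first term
  have tA : ∑ k ∈ Finset.Icc 1 h, b k * (4 * Q ^ (h + 2) / Q ^ n) ≤ 384 / q := by
    have h1 : ∑ k ∈ Finset.Icc 1 h, b k * (4 * Q ^ (h + 2) / Q ^ n) ≤
        ∑ k ∈ Finset.Icc 1 h, (3 * Q * 2 ^ k) * (4 * Q ^ (h + 2) / Q ^ n) :=
      Finset.sum_le_sum fun k hk => mul_le_mul_of_nonneg_right (hb2 k (Finset.mem_Icc.1 hk).1) (by positivity)
    refine h1.trans ?_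
    rw [← Finset.sum_mul, ← Finset.mul_sum]
    have h2 : (3 * Q * ∑ k ∈ Finset.Icc 1 h, (2 : ℝ) ^ k) * (4 * Q ^ (h + 2) / Q ^ n) ≤
        (3 * Q * (2 * 2 ^ h)) * (4 * Q ^ (h + 2) / Q ^ n) :=
      mul_le_mul_of_nonneg_right (mul_le_mul_of_nonneg_left g2 (by positivity)) (by positivity)
    refine h2.trans ?_
    have h3 : (3 * Q * (2 * 2 ^ h)) * (4 * Q ^ (h + 2) / Q ^ n) = 24 * (Q ^ 4 * 2 ^ h) * Q ^ h / Q ^ n / Q := by
      field_simp
      ring
    rw [h3]
    have h4 : 24 * (Q ^ 4 * 2 ^ h) * Q ^ h / Q ^ n ≤ 384 := by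
      rw [div_le_iff₀ hQn]
      have h5 : Q ^ (2 * h) = Q ^ h * Q ^ h := by rw [two_mul, pow_add]
      nlinarith only [key, hnpow, hQh, h5]
    calc 24 * (Q ^ 4 * 2 ^ h) * Q ^ h / Q ^ n / Q ≤ 384 / Q := div_le_div_of_nonneg_right h4 hQ0.le
      _ ≤ 384 / q := div_le_div_of_nonneg_left (by norm_num) hq0 hqQ
  have tC : ∑ k ∈ Finset.Icc 1 h, b k * (8 * Q ^ (k + 2) / Q ^ n) ≤ 768 / q := by
    have h1 : ∑ k ∈ Finset.Icc 1 h, b k * (8 * Q ^ (k + 2) / Q ^ n) ≤
        ∑ k ∈ Finset.Icc 1 h, (2 * Q) ^ k * (24 * Q ^ 3 / Q ^ n) := by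
      refine Finset.sum_le_sum fun k hk => ?_
      refine (mul_le_mul_of_nonneg_right (hb2 k (Finset.mem_Icc.1 hk).1) (by positivity)).trans (le_of_eq ?_)
      rw [mul_pow, pow_add]
      field_simp
      ring
    refine h1.trans ?_
    rw [← Finset.sum_mul]
    refine (mul_le_mul_of_nonneg_right g3 (by positivity)).trans ?_
    have h3 : (2 * (2 * Q) ^ h) * (24 * Q ^ 3 / Q ^ n) = 48 * (Q ^ 4 * 2 ^ h) * Q ^ h / Q ^ n / Q := by
      rw [mul_pow]
      field_simp
      ring
    rw [h3]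
    have h4 : 48 * (Q ^ 4 * 2 ^ h) * Q ^ h / Q ^ n ≤ 768 := by
      rw [div_le_iff₀ hQn]
      have h5 : Q ^ (2 * h) = Q ^ h * Q ^ h := by rw [two_mul, pow_add]
      nlinarith only [key, hnpow, hQh, h5]
    calc 48 * (Q ^ 4 * 2 ^ h) * Q ^ h / Q ^ n / Q ≤ 768 / Q := div_le_div_of_nonneg_right h4 hQ0.le
      _ ≤ 768 / q := div_le_div_of_nonneg_left (by norm_num) hq0 hqQ
  have tB : ∑ k ∈ Finset.Icc 1 h, b k * (C1 / q ^ k) ≤ 12 * C1 / q := by
    have h1 : ∑ k ∈ Finset.Icc 1 h, b k * (C1 / q ^ k) ≤ ∑ k ∈ Finset.Icc 1 h, (1 / 2 : ℝ) ^ (k - 1) * (6 * C1 / q) := by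
      refine Finset.sum_le_sum fun k hk => ?_
      have hk1 := (Finset.mem_Icc.1 hk).1
      refine (mul_le_mul_of_nonneg_right (hb1 k hk1) (by positivity)).trans (le_of_eq ?_)
      obtain ⟨j, rfl⟩ := Nat.exists_eq_add_of_le hk1
      rw [Nat.add_sub_cancel_left, div_pow, div_pow, one_pow, pow_add, pow_one]
      field_simp
    refine h1.trans ?_
    rw [← Finset.sum_mul]
    refine (mul_le_mul_of_nonneg_right g1 (by positivity)).trans (le_of_eq ?_)
    ring
  have h6 : ∑ k ∈ Finset.Icc 1 h, b k * (4 * Q ^ (h + 2) / Q ^ n + C1 / q ^ k + 8 * Q ^ (k + 2) / Q ^ n) =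
      ∑ k ∈ Finset.Icc 1 h, b k * (4 * Q ^ (h + 2) / Q ^ n) + ∑ k ∈ Finset.Icc 1 h, b k * (C1 / q ^ k) +
        ∑ k ∈ Finset.Icc 1 h, b k * (8 * Q ^ (k + 2) / Q ^ n) := by
    rw [← Finset.sum_add_distrib, ← Finset.sum_add_distrib]
    exact Finset.sum_congr rfl fun k _ => by ring
  rw [h6]
  have h7 : (12 * C1 + 1200) / q = 384 / q + 12 * C1 / q + 768 / q + 48 / q := by ring
  rw [h7]
  have : 0 ≤ 48 / q := by positivity
  linarith only [tA, tC, tB, this]

variable {K : Type u} {V : Type v} [Field K] [AddCommGroup V] [Module K V] [Finite V] [Finite K]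
variable {Y : Type w} [Group Y] [Finite Y] (ρ : Y →* (V →ₗ[K] V))

/-- **the union over a system of types** -/
theorem types_le {X : Type*} [Group X] [Finite X] (i : X →* Y) (hi : Function.Injective i) {m : ℝ}
    (hm : (Nat.card Y : ℝ) ≤ m * Nat.card X) (h8 : 8 ≤ finrank K V) {q C1 : ℝ} (hq : 4 ≤ q) (hqQ : q ≤ Nat.card K)
    (hC1 : 0 ≤ C1) (T : ℕ → Finset (Submodule K V)) (hT : ∀ k, ∀ W ∈ T k, finrank K W = k)
    (hb1 : ∀ k, 1 ≤ k → ((T k).card : ℝ) ≤ 6 * (q / 2) ^ (k - 1))
    (hb2 : ∀ k, 1 ≤ k → ((T k).card : ℝ) ≤ 3 * Nat.card K * 2 ^ k)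
    (h1 : ∀ v : V, v ≠ 0 → Nat.card K ^ (finrank K V - 1) ≤ 2 * Nat.card (Set.range fun y : Y => ρ y v))
    (h2 : ∀ v u : V, v ≠ 0 → (¬ ∃ l : K, u = l • v) → Nat.card K ^ (finrank K V - 2) ≤ 2 * Nat.card (sOrb ρ v u))
    (h3 : ∀ k, 1 ≤ k → 2 * k ≤ finrank K V → ∀ W ∈ T k, ∀ c : V →ₗ[K] K, c ≠ 0 →
      (Nat.card {y : Y // W.map (ρ y) ≤ LinearMap.ker c} : ℝ) ≤
        (C1 / q ^ k + 2 * (Nat.card K : ℝ) ^ (finrank K V / 2 + 2) / (Nat.card K : ℝ) ^ finrank K V) * Nat.card Y)
    (x : X) (hx : ¬ ∃ l : K, ∀ v, ρ (i x) v = l • v) :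
    (Nat.card {z : X // ∃ k, 1 ≤ k ∧ 2 * k ≤ finrank K V ∧ ∃ W ∈ T k, ∃ y : Y,
      (W.map (ρ y)).map (ρ (i x)) ≤ W.map (ρ y) ∧ (W.map (ρ y)).map (ρ (i z)) ≤ W.map (ρ y)} : ℝ) ≤
      m * ((12 * C1 + 1200) / q) * Nat.card X := by
  classical
  set n := finrank K V with hn
  set Q : ℝ := (Nat.card K : ℝ) with hQ
  have hq0 : (0 : ℝ) < q := by linarith only [hq]
  have hQ0 : (0 : ℝ) < Q := by linarith only [hq, hqQ]
  have hK2 : 2 ≤ Nat.card K := by
    have : (4 : ℝ) ≤ (Nat.card K : ℝ) := hq.trans hqQ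
    have h4 : 4 ≤ Nat.card K := by exact_mod_cast this
    omega
  -- each type
  have hone : ∀ k, 1 ≤ k → 2 * k ≤ n → ∀ W ∈ T k,
      (Nat.card {z : X // ∃ y : Y, (W.map (ρ y)).map (ρ (i x)) ≤ W.map (ρ y) ∧
        (W.map (ρ y)).map (ρ (i z)) ≤ W.map (ρ y)} : ℝ) ≤
      (4 * Q ^ (n / 2 + 2) / Q ^ n + C1 / q ^ k + 8 * Q ^ (k + 2) / Q ^ n) * Nat.card Y := by
    intro k hk1 hk2 W hW
    have hWk := hT k W hW
    have h4 : (Nat.card {z : X // ∃ y : Y, (W.map (ρ y)).map (ρ (i x)) ≤ W.map (ρ y) ∧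
        (W.map (ρ y)).map (ρ (i z)) ≤ W.map (ρ y)} : ℝ) ≤
        (Nat.card {y : Y // (W.map (ρ y)).map (ρ (i x)) ≤ W.map (ρ y)} : ℝ) := by
      exact_mod_cast card_common_le ρ W i hi (i x)
    refine h4.trans ?_
    have hWne : W ≠ ⊥ := by
      rintro rfl
      rw [finrank_bot] at hWk
      omega
    obtain ⟨w, hw, hw0⟩ := Submodule.exists_mem_ne_zero_of_ne_bot hWne
    -- the numbers M1, M2
    have hM1 : 0 < Nat.card (Set.range fun y : Y => ρ y w) := by
      have h5 := h1 w hw0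
      have h6 : 0 < Nat.card K ^ (n - 1) := by positivity
      omega
    -- M2 as a natural number
    have hM2 : 0 < (Nat.card K ^ (n - 2) + 1) / 2 := by
      have h6 : 0 < Nat.card K ^ (n - 2) := by positivity
      omega
    have h5 := fix_le ρ W (i x) hx hM1 hM2 ⟨w, hw, le_rfl⟩ (fun v u hv hu _ => by
      have := h2 v u hv hu
      omega) (p := C1 / q ^ k + 2 * Q ^ (n / 2 + 2) / Q ^ n) (by (clear * - hq hC1 hK2; positivity)) (fun c hc => h3 k hk1 hk2 W hW c hc)
    refine h5.trans (mul_le_mul_of_nonneg_right ?_ (Nat.cast_nonneg _))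
    -- compare
    have e1 : Q * Q ^ (n / 2) / (Nat.card (Set.range fun y : Y => ρ y w) : ℝ) ≤ 2 * Q ^ (n / 2 + 2) / Q ^ n := by
      have h6 : Q ^ (n - 1) ≤ 2 * (Nat.card (Set.range fun y : Y => ρ y w) : ℝ) := by
        have := h1 w hw0
        rw [hQ]
        exact_mod_cast this
      have h7 : (0 : ℝ) < (Nat.card (Set.range fun y : Y => ρ y w) : ℝ) := by exact_mod_cast hM1
      rw [div_le_div_iff₀ h7 (by positivity)]
      have h8' : Q ^ n = Q * Q ^ (n - 1) := by rw [← pow_succ']; congr 1; omega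
      rw [h8', pow_add]
      have h9 : 0 < Q ^ (n / 2) := by positivity
      have h10 : Q * Q ^ (n / 2) * (Q * Q ^ (n - 1)) ≤ Q * Q ^ (n / 2) * (Q * (2 * (Nat.card (Set.range fun y : Y => ρ y w) : ℝ))) :=
        mul_le_mul_of_nonneg_left (mul_le_mul_of_nonneg_left h6 hQ0.le) (by (clear * - hK2; positivity))
      refine h10.trans (le_of_eq ?_)
      ring
    have e2 : 4 * (Nat.card W : ℝ) / (((Nat.card K ^ (n - 2) + 1) / 2 : ℕ) : ℝ) ≤ 8 * Q ^ (k + 2) / Q ^ n := by
      have h6 : Q ^ (n - 2) ≤ 2 * (((Nat.card K ^ (n - 2) + 1) / 2 : ℕ) : ℝ) := by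
        have : Nat.card K ^ (n - 2) ≤ 2 * ((Nat.card K ^ (n - 2) + 1) / 2) := by omega
        rw [hQ]
        exact_mod_cast this
      have h7 : (0 : ℝ) < (((Nat.card K ^ (n - 2) + 1) / 2 : ℕ) : ℝ) := by exact_mod_cast hM2
      have h7' : (Nat.card W : ℝ) = Q ^ k := by
        have : Nat.card W = Nat.card K ^ finrank K W := Module.natCard_eq_pow_finrank
        rw [this, hWk]
        push_cast
        rfl
      rw [h7', div_le_div_iff₀ h7 (by positivity)]
      have h8' : Q ^ n = Q ^ 2 * Q ^ (n - 2) := by rw [← pow_add]; congr 1; omega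
      rw [h8', pow_add]
      have h10 : 4 * Q ^ k * (Q ^ 2 * Q ^ (n - 2)) ≤ 4 * Q ^ k * (Q ^ 2 * (2 * (((Nat.card K ^ (n - 2) + 1) / 2 : ℕ) : ℝ))) :=
        mul_le_mul_of_nonneg_left (mul_le_mul_of_nonneg_left h6 (by positivity)) (by positivity)
      refine h10.trans (le_of_eq ?_)
      ring
    have e3 : 4 * Q ^ (n / 2 + 2) / Q ^ n = 2 * Q ^ (n / 2 + 2) / Q ^ n + 2 * Q ^ (n / 2 + 2) / Q ^ n := by ring
    rw [e3]
    linarith only [e1, e2]
  -- the union
  have hun : (Nat.card {z : X // ∃ k, 1 ≤ k ∧ 2 * k ≤ n ∧ ∃ W ∈ T k, ∃ y : Y,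
      (W.map (ρ y)).map (ρ (i x)) ≤ W.map (ρ y) ∧ (W.map (ρ y)).map (ρ (i z)) ≤ W.map (ρ y)} : ℝ) ≤
      ∑ k ∈ Finset.Icc 1 (n / 2), ∑ W ∈ T k,
        (Nat.card {z : X // ∃ y : Y, (W.map (ρ y)).map (ρ (i x)) ≤ W.map (ρ y) ∧
          (W.map (ρ y)).map (ρ (i z)) ≤ W.map (ρ y)} : ℝ) := by
    have hX := Fintype.ofFinite X
    have hc : ∀ P : X → Prop, (Nat.card {z : X // P z} : ℝ) = ((Finset.univ.filter P).card : ℝ) := by
      intro P
      rw [Nat.card_eq_fintype_card, Fintype.card_subtype]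
    rw [hc]
    simp only [hc]
    have hsub : (Finset.univ.filter fun z : X => ∃ k, 1 ≤ k ∧ 2 * k ≤ n ∧ ∃ W ∈ T k, ∃ y : Y,
      (W.map (ρ y)).map (ρ (i x)) ≤ W.map (ρ y) ∧ (W.map (ρ y)).map (ρ (i z)) ≤ W.map (ρ y)) ⊆
      (Finset.Icc 1 (n / 2)).biUnion fun k => (T k).biUnion fun W => Finset.univ.filter fun z : X =>
        ∃ y : Y, (W.map (ρ y)).map (ρ (i x)) ≤ W.map (ρ y) ∧ (W.map (ρ y)).map (ρ (i z)) ≤ W.map (ρ y) := by
      intro z hz
      obtain ⟨k, hk1, hk2, W, hW, y, hy⟩ := (Finset.mem_filter.1 hz).2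
      refine Finset.mem_biUnion.2 ⟨k, Finset.mem_Icc.2 ⟨hk1, by omega⟩, Finset.mem_biUnion.2 ⟨W, hW, ?_⟩⟩
      exact Finset.mem_filter.2 ⟨Finset.mem_univ _, y, hy⟩
    have h5 := (Finset.card_le_card hsub).trans (Finset.card_biUnion_le.trans
      (Finset.sum_le_sum fun k _ => Finset.card_biUnion_le))
    exact_mod_cast h5
  refine hun.trans ?_
  have h5 : ∑ k ∈ Finset.Icc 1 (n / 2), ∑ W ∈ T k,
        (Nat.card {z : X // ∃ y : Y, (W.map (ρ y)).map (ρ (i x)) ≤ W.map (ρ y) ∧
          (W.map (ρ y)).map (ρ (i z)) ≤ W.map (ρ y)} : ℝ) ≤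
      ∑ k ∈ Finset.Icc 1 (n / 2), ((T k).card : ℝ) *
        (4 * Q ^ (n / 2 + 2) / Q ^ n + C1 / q ^ k + 8 * Q ^ (k + 2) / Q ^ n) * Nat.card Y := by
    refine Finset.sum_le_sum fun k hk => ?_
    obtain ⟨hk1, hk2⟩ := Finset.mem_Icc.1 hk
    refine (Finset.sum_le_card_nsmul _ _ _ fun W hW => hone k hk1 (by omega) W hW).trans (le_of_eq ?_)
    rw [nsmul_eq_mul, mul_assoc]
  refine h5.trans ?_
  rw [← Finset.sum_mul]
  have h6 := num_types (q := q) (Q := Q) (C1 := C1) hq hqQ hC1 (n := n) (h := n / 2) (by omega) (by omega)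
    (fun k => ((T k).card : ℝ)) (fun k => Nat.cast_nonneg _) hb1 hb2
  calc _ ≤ (12 * C1 + 1200) / q * Nat.card Y := mul_le_mul_of_nonneg_right h6 (Nat.cast_nonneg _)
    _ ≤ (12 * C1 + 1200) / q * (m * Nat.card X) := mul_le_mul_of_nonneg_left hm (by (clear * - hq hC1; positivity))
    _ = _ := by ring

/-- invariant subspaces: a small totally isotropic or nondegenerate one -/
theorem cover (perp : Submodule K V → Submodule K V) (hfr : ∀ W, finrank K (perp W) + finrank K W = finrank K V)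
    (hle : ∀ W, W ≤ perp (perp W)) (hanti : ∀ A B, A ≤ B → perp B ≤ perp A) (P : Submodule K V → Prop) (hinv : ∀ W, P W → P (perp W))
    (hinf : ∀ W W', P W → P W' → P (W ⊓ W')) {W : Submodule K V} (hW : P W) (h0 : W ≠ ⊥) (h1 : W ≠ ⊤) :
    ∃ R : Submodule K V, P R ∧ R ≠ ⊥ ∧ 2 * finrank K R ≤ finrank K V ∧ (R ≤ perp R ∨ R ⊓ perp R = ⊥) := by
  have hfd : FiniteDimensional K V := Module.Finite.of_finite
  have hpp : ∀ W, perp (perp W) = W := by
    intro W
    have h2 := hfr W
    have h3 := hfr (perp W)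
    exact (Submodule.eq_of_le_of_finrank_eq (hle W) (by omega)).symm
  by_cases hR : W ⊓ perp W = ⊥
  · rcases Nat.lt_or_ge (finrank K V) (2 * finrank K W) with h2 | h2
    · refine ⟨perp W, hinv W hW, ?_, ?_, Or.inr ?_⟩
      · intro h3
        have h4 := hfr W
        rw [h3, finrank_bot, zero_add] at h4
        exact h1 (Submodule.eq_top_of_finrank_eq h4)
      · have := hfr W
        omega
      · rw [hpp, inf_comm]
        exact hR
    · exact ⟨W, hW, h0, h2, Or.inr hR⟩
  · refine ⟨W ⊓ perp W, hinf _ _ hW (hinv W hW), hR, ?_, Or.inl ?_⟩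
    · have h2 := hfr W
      have h3 : finrank K (W ⊓ perp W : Submodule K V) ≤ finrank K W := Submodule.finrank_mono inf_le_left
      have h4 : finrank K (W ⊓ perp W : Submodule K V) ≤ finrank K (perp W) := Submodule.finrank_mono inf_le_right
      omega
    · exact inf_le_right.trans (hanti _ _ inf_le_left)

end Cfsg.Agent.H262.Rx
end

-- part: H262/Rx/Red4
section
/-!
# S5716, reducible part: kinds of subspaces (helper262)

* `red_of_kinds` : the final form, with kinds `κ k` of `k`-dimensional subspaces;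
* `three_of_trans` : hypothesis (3) when the group is transitive on functionals;
* `cover_bilin` : the cover for a nondegenerate reflexive bilinear form.
-/

set_option autoImplicit false
set_option linter.unusedSectionVars false
set_option linter.unusedVariables false

namespace Cfsg.Agent.H262.Rx

open Module

universe u v w

/-- `y` and `x` have a common invariant subspace -/
def Red {X K V : Type*} [Field K] [AddCommGroup V] [Module K V] [Group X] (τ : X →* (V →ₗ[K] V)) (x y : X) : Prop :=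
  ∃ W : Submodule K V, W ≠ ⊥ ∧ W ≠ ⊤ ∧ W.map (τ x) ≤ W ∧ W.map (τ y) ≤ W

variable {K : Type u} {V : Type v} [Field K] [AddCommGroup V] [Module K V] [Finite V] [Finite K]
variable {Y : Type w} [Group Y] [Finite Y] (ρ : Y →* (V →ₗ[K] V))

/-- **the final form** -/
theorem red_of_kinds {X : Type*} [Group X] [Finite X] (i : X →* Y) (hi : Function.Injective i) {m : ℝ}
    (hm : (Nat.card Y : ℝ) ≤ m * Nat.card X) (h8 : 8 ≤ finrank K V) {q C1 : ℝ} (hq : 4 ≤ q) (hqQ : q ≤ Nat.card K)
    (hC1 : 0 ≤ C1) (κ : ℕ → Type) [∀ k, Fintype (κ k)] (P : ∀ k, κ k → Submodule K V → Prop)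
    (hb1 : ∀ k, 1 ≤ k → (Fintype.card (κ k) : ℝ) ≤ 6 * (q / 2) ^ (k - 1))
    (hb2 : ∀ k, 1 ≤ k → (Fintype.card (κ k) : ℝ) ≤ 3 * Nat.card K * 2 ^ k)
    (htr : ∀ k, 1 ≤ k → 2 * k ≤ finrank K V → ∀ j : κ k, ∀ W W' : Submodule K V, P k j W → P k j W' → finrank K W = k →
      finrank K W' = k → ∃ y : Y, W.map (ρ y) = W')
    (h1 : ∀ v : V, v ≠ 0 → Nat.card K ^ (finrank K V - 1) ≤ 2 * Nat.card (Set.range fun y : Y => ρ y v))
    (h2 : ∀ v u : V, v ≠ 0 → (¬ ∃ l : K, u = l • v) → Nat.card K ^ (finrank K V - 2) ≤ 2 * Nat.card (sOrb ρ v u))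
    (h3 : ∀ k, 1 ≤ k → 2 * k ≤ finrank K V → ∀ j : κ k, ∀ W : Submodule K V, P k j W → finrank K W = k →
      ∀ c : V →ₗ[K] K, c ≠ 0 → (Nat.card {y : Y // W.map (ρ y) ≤ LinearMap.ker c} : ℝ) ≤
        (C1 / q ^ k + 2 * (Nat.card K : ℝ) ^ (finrank K V / 2 + 2) / (Nat.card K : ℝ) ^ finrank K V) * Nat.card Y)
    (x : X) (hx : ¬ ∃ l : K, ∀ v, ρ (i x) v = l • v)
    (hcov : ∀ z : X, (∃ W : Submodule K V, W ≠ ⊥ ∧ W ≠ ⊤ ∧ W.map (ρ (i x)) ≤ W ∧ W.map (ρ (i z)) ≤ W) →
      ∃ k, 1 ≤ k ∧ 2 * k ≤ finrank K V ∧ ∃ (j : κ k) (R : Submodule K V), finrank K R = k ∧ P k j R ∧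
        R.map (ρ (i x)) ≤ R ∧ R.map (ρ (i z)) ≤ R) :
    (Nat.card {z : X // Red (ρ.comp i) x z} : ℝ) ≤ m * ((12 * C1 + 1200) / q) * Nat.card X := by
  classical
  let S : (k : ℕ) → κ k → Submodule K V := fun k j =>
    if h : ∃ W : Submodule K V, P k j W ∧ finrank K W = k then Classical.choose h else ⊥
  let T : ℕ → Finset (Submodule K V) := fun k =>
    (Finset.univ.filter fun j : κ k => ∃ W : Submodule K V, P k j W ∧ finrank K W = k).image (S k)
  have hS : ∀ k (j : κ k), (∃ W : Submodule K V, P k j W ∧ finrank K W = k) → P k j (S k j) ∧ finrank K (S k j) = k := by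
    intro k j h
    have e : S k j = Classical.choose h := dif_pos h
    rw [e]
    exact Classical.choose_spec h
  have hTm : ∀ k, ∀ W ∈ T k, ∃ j : κ k, P k j W ∧ finrank K W = k := by
    intro k W hW
    obtain ⟨j, hj, rfl⟩ := Finset.mem_image.1 hW
    exact ⟨j, hS k j (Finset.mem_filter.1 hj).2⟩
  have hcard : ∀ k, (T k).card ≤ Fintype.card (κ k) := by
    intro k
    refine Finset.card_image_le.trans ?_
    exact (Finset.card_le_univ _)
  have h := types_le ρ i hi hm h8 hq hqQ hC1 T (fun k W hW => (hTm k W hW).choose_spec.2)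
    (fun k hk => le_trans (by exact_mod_cast hcard k) (hb1 k hk))
    (fun k hk => le_trans (by exact_mod_cast hcard k) (hb2 k hk)) h1 h2
    (fun k hk1 hk2 W hW c hc => by
      obtain ⟨j, hj, hd⟩ := hTm k W hW
      exact h3 k hk1 hk2 j W hj hd c hc) x hx
  refine le_trans ?_ h
  have h4 : Nat.card {z : X // Red (ρ.comp i) x z} ≤
      Nat.card {z : X // ∃ k, 1 ≤ k ∧ 2 * k ≤ finrank K V ∧ ∃ W ∈ T k, ∃ y : Y,
      (W.map (ρ y)).map (ρ (i x)) ≤ W.map (ρ y) ∧ (W.map (ρ y)).map (ρ (i z)) ≤ W.map (ρ y)} := by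
    refine Nat.card_le_card_of_injective (fun z => ⟨z.1, ?_⟩) fun a b hab =>
      Subtype.ext (by have h := congrArg Subtype.val hab; exact h)
    obtain ⟨k, hk1, hk2, j, R, hR, hP, hRx, hRz⟩ := hcov z.1 z.2
    have hex : ∃ W : Submodule K V, P k j W ∧ finrank K W = k := ⟨R, hP, hR⟩
    obtain ⟨hS1, hS2⟩ := hS k j hex
    obtain ⟨y, hy⟩ := htr k hk1 hk2 j (S k j) R hS1 hP hS2 hR
    refine ⟨k, hk1, hk2, S k j, Finset.mem_image.2 ⟨j, Finset.mem_filter.2 ⟨Finset.mem_univ _, hex⟩, rfl⟩, y, ?_⟩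
    rw [hy]
    exact ⟨hRx, hRz⟩
  exact_mod_cast h4

/-- functionals vanishing on a subspace -/
theorem card_annih (W : Submodule K V) :
    Nat.card {d : V →ₗ[K] K // W ≤ LinearMap.ker d} = Nat.card K ^ (finrank K V - finrank K W) := by
  have hfd : FiniteDimensional K V := Module.Finite.of_finite
  have h1 : finrank K W.dualAnnihilator = finrank K V - finrank K W := by
    have := Subspace.finrank_add_finrank_dualAnnihilator_eq W
    omega
  rw [← h1]
  have h2 : Nat.card W.dualAnnihilator = Nat.card K ^ finrank K W.dualAnnihilator :=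
    Module.natCard_eq_pow_finrank (K := K) (V := ↥W.dualAnnihilator)
  rw [← h2]
  refine Nat.card_congr (Equiv.subtypeEquivRight fun d => ?_)
  rw [Submodule.mem_dualAnnihilator]
  exact ⟨fun h v hv => h hv, fun h v hv => h v hv⟩

/-- hypothesis (3) from a lower bound for the orbits on functionals -/
theorem three_of_orb (W : Submodule K V) (c : V →ₗ[K] K) {M : ℝ} (hM : 0 < M)
    (horb : M ≤ (Nat.card (Set.range fun y : Y => c ∘ₗ ρ y) : ℝ)) :
    (Nat.card {y : Y // W.map (ρ y) ≤ LinearMap.ker c} : ℝ) ≤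
      ((Nat.card K : ℝ) ^ (finrank K V - finrank K W) / M) * Nat.card Y := by
  have hfin : Finite (V →ₗ[K] K) := DFunLike.finite _
  have h1 := card_ker_le ρ W c
  have h2 : Nat.card {d : V →ₗ[K] K // (∃ y, d = c ∘ₗ ρ y) ∧ W ≤ LinearMap.ker d} ≤
      Nat.card K ^ (finrank K V - finrank K W) := by
    rw [← card_annih W]
    exact Nat.card_le_card_of_injective (fun d => ⟨d.1, d.2.2⟩) fun a b hab =>
      Subtype.ext (by have h := congrArg Subtype.val hab; exact h)
  have h3 : (Nat.card {y : Y // W.map (ρ y) ≤ LinearMap.ker c} : ℝ) *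
      (Nat.card (Set.range fun y : Y => c ∘ₗ ρ y) : ℝ) ≤
      (Nat.card K : ℝ) ^ (finrank K V - finrank K W) * Nat.card Y := by
    exact_mod_cast h1.trans (Nat.mul_le_mul_right _ h2)
  rw [div_mul_eq_mul_div, le_div_iff₀ hM]
  exact (mul_le_mul_of_nonneg_left horb (Nat.cast_nonneg _)).trans h3

end Cfsg.Agent.H262.Rx
end

private theorem dce_e36569db6cec : _root_.True := by
  try have : _root_.True := by simp only [_root_.Cfsg.Agent.H262.Rx.Es.eq_1]
  exact _root_.True.intro
end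

-- part: H262/Rx/RedSL
section
prune_inst 0x100021000402020000000000100020402200049000000000c10000000080c40080000000b0300410008090044838000811000000020000000a000000011c00800000020080080100000008000000000000000000000000000000000000000000000000000
set_option linter.all false
open scoped Cfsg.Agent.FastGrp

/-!
# S5716, reducible part: `SL_n(F)` (helper262)
-/

set_option autoImplicit false
set_option linter.unusedSectionVars false
set_option linter.unusedVariables false

namespace Cfsg.Agent.H262.Rx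

open Module Cfsg.Agent.H141.Rg

section Lin

variable {K V : Type*} [Field K] [AddCommGroup V] [Module K V] [FiniteDimensional K V]

/-- extending a family by a vector outside of its span -/
theorem exists_not_mem {W : Submodule K V} (h : finrank K W < finrank K V) : ∃ t, t ∉ W := by
  by_contra hc
  push Not at hc
  have : W = ⊤ := Submodule.eq_top_iff'.2 hc
  rw [this, finrank_top] at h
  omega

/-- `SL(V)` is transitive on small families -/
theorem exists_sl_small {ι : Type*} [Fintype ι] {u v : ι → V} (hu : LinearIndependent K u)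
    (hv : LinearIndependent K v) (h : Fintype.card ι < finrank K V) :
    ∃ g : SpecialLinearGroup K V, ∀ i, g.1 (u i) = v i := by
  obtain ⟨s, hs⟩ := exists_not_mem (K := K) (V := V) (W := Submodule.span K (Set.range u)) (by
    rwa [finrank_span_eq_card hu])
  obtain ⟨t, ht⟩ := exists_not_mem (K := K) (V := V) (W := Submodule.span K (Set.range v)) (by
    rwa [finrank_span_eq_card hv])
  obtain ⟨g, c, -, hg⟩ := H105.exists_sl (u := fun o : Option ι => (o.casesOn' s u : V))
    (v := fun o : Option ι => (o.casesOn' t v : V)) ((linearIndependent_option'.2 ⟨hu, hs⟩ :))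
    (linearIndependent_option'.2 ⟨hv, ht⟩) none
  exact ⟨g, fun i => hg (some i) (by simp)⟩

/-- `SL(V)` is transitive on subspaces of a given dimension -/
theorem exists_sl_sub {W W' : Submodule K V} (h : finrank K W = finrank K W') (h0 : 0 < finrank K W) :
    ∃ g : SpecialLinearGroup K V, W.map (g.1 : V →ₗ[K] V) = W' := by
  let b := finBasis K W
  let b' := (finBasis K W').reindex (finCongr h.symm)
  have hb : LinearIndependent K (fun i => (b i : V)) := b.linearIndependent.map' W.subtype (Submodule.ker_subtype W)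
  have hb' : LinearIndependent K (fun i => (b' i : V)) :=
    b'.linearIndependent.map' W'.subtype (Submodule.ker_subtype W')
  obtain ⟨g, c, hg0, hg⟩ := H105.exists_sl hb hb' ⟨0, h0⟩
  refine ⟨g, ?_⟩
  refine Submodule.eq_of_le_of_finrank_eq ?_ ?_
  · rw [Submodule.map_le_iff_le_comap]
    have h1 : W = Submodule.span K (Set.range fun i => (b i : V)) := by
      have := b.span_eq
      have h2 : (Submodule.span K (Set.range b)).map W.subtype = W := by rw [this, Submodule.map_subtype_top]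
      rw [Submodule.map_span, ← Set.range_comp] at h2
      exact h2.symm
    rw [h1, Submodule.span_le]
    rintro _ ⟨i, rfl⟩
    rw [SetLike.mem_coe, Submodule.mem_comap]
    by_cases hi : i = ⟨0, h0⟩
    · rw [hi]
      change g.1 (b _ : V) ∈ W'
      rw [hg0]
      exact W'.smul_mem _ (b' _).2
    · change g.1 (b i : V) ∈ W'
      rw [hg i hi]
      exact (b' i).2
  · rw [← h]
    exact LinearEquiv.finrank_map_eq g.1 W

/-- `SL(V)` is transitive on functionals -/
theorem exists_sl_fun {c d : V →ₗ[K] K} (hc : c ≠ 0) (hd : d ≠ 0) (hn : 2 ≤ finrank K V) :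
    ∃ g : SpecialLinearGroup K V, c ∘ₗ (g.1 : V →ₗ[K] V) = d := by
  have hdim : ∀ e : V →ₗ[K] K, e ≠ 0 → finrank K (LinearMap.ker e) = finrank K V - 1 := by
    intro e he
    have h1 := LinearMap.finrank_range_add_finrank_ker e
    have h2 : LinearMap.range e = ⊤ := LinearMap.range_eq_top.2 (LinearMap.surjective he)
    rw [h2, finrank_top, finrank_self] at h1
    omega
  obtain ⟨v0, hv0⟩ : ∃ v, d v = 1 := (LinearMap.surjective hd) 1
  obtain ⟨v1, hv1⟩ : ∃ v, c v = 1 := (LinearMap.surjective hc) 1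
  let b := (finBasis K (LinearMap.ker d)).reindex (finCongr (hdim d hd))
  let b' := (finBasis K (LinearMap.ker c)).reindex (finCongr (hdim c hc))
  have hb : LinearIndependent K (fun i => (b i : V)) :=
    b.linearIndependent.map' (LinearMap.ker d).subtype (Submodule.ker_subtype _)
  have hb' : LinearIndependent K (fun i => (b' i : V)) :=
    b'.linearIndependent.map' (LinearMap.ker c).subtype (Submodule.ker_subtype _)
  have hsp : ∀ (e : V →ₗ[K] K) (f : Basis (Fin (finrank K V - 1)) K (LinearMap.ker e)) (v : V), e v = 1 →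
      v ∉ Submodule.span K (Set.range fun i => (f i : V)) := by
    intro e f v hv hmem
    have h1 : Submodule.span K (Set.range fun i => (f i : V)) ≤ LinearMap.ker e := by
      rw [Submodule.span_le]
      rintro _ ⟨i, rfl⟩
      exact (f i).2
    have h2 := h1 hmem
    rw [LinearMap.mem_ker, hv] at h2
    exact one_ne_zero h2
  have hu : LinearIndependent K (fun o : Option (Fin (finrank K V - 1)) => (o.casesOn' v0 fun i => (b i : V) : V)) :=
    linearIndependent_option'.2 ⟨hb, hsp d b v0 hv0⟩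
  obtain ⟨g, l, hg0, hg⟩ := H105.exists_sl hu
    (linearIndependent_option'.2 ⟨hb', hsp c b' v1 hv1⟩) (some ⟨0, by omega⟩)
  refine ⟨g, ?_⟩
  have hspan : Submodule.span K (Set.range fun o : Option (Fin (finrank K V - 1)) => (o.casesOn' v0 fun i => (b i : V) : V)) = ⊤ := by
    apply hu.span_eq_top_of_card_eq_finrank'
    rw [Fintype.card_option, Fintype.card_fin]
    omega
  refine LinearMap.ext_on_range hspan ?_
  intro o
  cases o with
  | none =>
    change c (g.1 v0) = d v0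
    have := hg none (by simp)
    change g.1 v0 = v1 at this
    rw [this, hv1, hv0]
  | some i =>
    change c (g.1 (b i : V)) = d (b i)
    have hbi : d (b i) = 0 := (b i).2
    rw [hbi]
    by_cases hi : i = ⟨0, by omega⟩
    · subst hi
      change g.1 (b _ : V) = (l : K) • (b' _ : V) at hg0
      rw [hg0, map_smul]
      have : c (b' ⟨0, by omega⟩) = 0 := (b' _).2
      rw [this, smul_zero]
    · have h1 := hg (some i) (by simpa using hi)
      change g.1 (b i : V) = (b' i : V) at h1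
      rw [h1]
      exact (b' i).2

end Lin

section Main

variable (n : ℕ) (F : Type) [Field F] [Fintype F]

theorem exists_mat (g : SpecialLinearGroup F (Fin n → F)) :
    ∃ y : Matrix.SpecialLinearGroup (Fin n) F, ∀ v, slAct n F y v = g.1 v := by
  refine ⟨⟨LinearMap.toMatrix' (g.1 : (Fin n → F) →ₗ[F] (Fin n → F)), ?_⟩, fun v => ?_⟩
  · rw [LinearMap.det_toMatrix']
    have h1 : LinearEquiv.det g.1 = 1 := g.2
    rw [← LinearEquiv.coe_det, h1, Units.val_one]
  · change Matrix.toLin' (LinearMap.toMatrix' (g.1 : (Fin n → F) →ₗ[F] (Fin n → F))) v = g.1 v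
    rw [Matrix.toLin'_toMatrix']
    rfl

theorem slAct_apply (y : Matrix.SpecialLinearGroup (Fin n) F) (v : Fin n → F) :
    slAct n F y v = (y : Matrix (Fin n) (Fin n) F).mulVec v := rfl

/-- at least `|F| ^ (n - 1) / 2` -/
theorem sl_one (hn : 2 ≤ n) (v : Fin n → F) (hv : v ≠ 0) :
    Nat.card F ^ (n - 1) ≤ 2 * Nat.card (Set.range fun y : Matrix.SpecialLinearGroup (Fin n) F => slAct n F y v) := by
  classical
  have h1 : (Set.univ \ {0} : Set (Fin n → F)) ⊆ Set.range fun y : Matrix.SpecialLinearGroup (Fin n) F => slAct n F y v := by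
    intro u hu
    have hu0 : u ≠ 0 := fun h => hu.2 h
    obtain ⟨g, hg⟩ := exists_sl_small (K := F) (V := Fin n → F) (ι := Unit) (u := fun _ => v) (v := fun _ => u)
      (linearIndependent_unique_iff.2 hv) (linearIndependent_unique_iff.2 hu0) (by simp only [_root_.Fintype.card_unique, _root_.Module.finrank_fintype_fun_eq_card, _root_.Fintype.card_fin]; omega)
    obtain ⟨y, hy⟩ := exists_mat n F g
    exact ⟨y, (hy v).trans (hg ())⟩
  have h2 := Nat.card_mono (Set.toFinite _) h1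
  have h3 : Nat.card (Set.univ \ {0} : Set (Fin n → F)) = Nat.card F ^ n - 1 := by
    rw [Nat.card_coe_set_eq, Set.ncard_sdiff_singleton_of_mem (Set.mem_univ _), Set.ncard_univ, Nat.card_fun]
    simp only [_root_.Nat.card_eq_fintype_card, _root_.Fintype.card_fin]
  rw [h3] at h2
  have h4 : Nat.card F ^ n = Nat.card F * Nat.card F ^ (n - 1) := by
    rw [← pow_succ']
    congr 1
    omega
  have h5 : 2 ≤ Nat.card F := Finite.one_lt_card
  have h6 : 1 ≤ Nat.card F ^ (n - 1) := Nat.one_le_pow _ _ (by omega)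
  have h7 : 2 * Nat.card F ^ (n - 1) ≤ Nat.card F ^ n := by
    rw [h4]
    exact Nat.mul_le_mul_right _ h5
  omega

theorem sl_two (hn : 3 ≤ n) (v u : Fin n → F) (hv : v ≠ 0) (hu : ¬ ∃ l : F, u = l • v) :
    Nat.card F ^ (n - 2) ≤ 2 * Nat.card (sOrb (slAct n F) v u) := by
  classical
  have hli : ∀ w : Fin n → F, (¬ ∃ l : F, w = l • v) → LinearIndependent F ![v, w] := by
    intro w hw
    rw [LinearIndependent.pair_iff' hv]
    intro a ha
    exact hw ⟨a, ha.symm⟩
  have h1 : (Set.univ \ (Submodule.span F {v} : Set (Fin n → F))) ⊆ sOrb (slAct n F) v u := by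
    intro w hw
    have hw' : ¬ ∃ l : F, w = l • v := fun ⟨l, hl⟩ => hw.2 (by
      rw [SetLike.mem_coe, Submodule.mem_span_singleton]
      exact ⟨l, hl.symm⟩)
    obtain ⟨g, hg⟩ := exists_sl_small (K := F) (V := Fin n → F) (hli u hu) (hli w hw') (by simp only [_root_.Nat.succ_eq_add_one, _root_.zero_add, _root_.Nat.reduceAdd, _root_.Fintype.card_fin, _root_.Module.finrank_fintype_fun_eq_card]; omega)
    obtain ⟨y, hy⟩ := exists_mat n F g
    exact ⟨y, (hy v).trans (hg 0), (hy u).trans (hg 1)⟩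
  have h2 := Nat.card_mono (Set.toFinite _) h1
  have h3 : Nat.card (Set.univ \ (Submodule.span F {v} : Set (Fin n → F)) : Set (Fin n → F)) = Nat.card F ^ n - Nat.card F := by
    rw [Nat.card_coe_set_eq, Set.ncard_sdiff (Set.subset_univ _), Set.ncard_univ, Nat.card_fun, ← Nat.card_coe_set_eq]
    have h4 : Nat.card (Submodule.span F {v}) = Nat.card F ^ finrank F (Submodule.span F {v}) :=
      Module.natCard_eq_pow_finrank
    rw [finrank_span_singleton hv, pow_one] at h4
    rw [show Nat.card ((Submodule.span F {v} : Submodule F (Fin n → F)) : Set (Fin n → F)) = Nat.card F from h4]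
    simp only [_root_.Nat.card_eq_fintype_card, _root_.Fintype.card_fin]
  rw [h3] at h2
  have h5 : 2 ≤ Nat.card F := Finite.one_lt_card
  have h4 : Nat.card F ^ n = Nat.card F * (Nat.card F * Nat.card F ^ (n - 2)) := by
    rw [← pow_succ', ← pow_succ']
    congr 1
    omega
  have h7 : Nat.card F ≤ Nat.card F * Nat.card F ^ (n - 2) :=
    Nat.le_mul_of_pos_right _ (Nat.pow_pos (by omega))
  have h8 : 2 * (Nat.card F * Nat.card F ^ (n - 2)) ≤ Nat.card F ^ n := by
    rw [h4]
    exact Nat.mul_le_mul_right _ h5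
  have h9 : Nat.card F ^ (n - 2) ≤ Nat.card F * Nat.card F ^ (n - 2) := Nat.le_mul_of_pos_left _ (by omega)
  omega

/-- functionals vanishing on a subspace -/
theorem card_ann {V : Type*} [AddCommGroup V] [Module F V] [Finite V] (W : Submodule F V) :
    Nat.card {d : V →ₗ[F] F // W ≤ LinearMap.ker d} = Nat.card F ^ (finrank F V - finrank F W) := by
  have hfd : FiniteDimensional F V := Module.Finite.of_finite
  have h1 : finrank F W.dualAnnihilator = finrank F V - finrank F W := by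
    have := Subspace.finrank_add_finrank_dualAnnihilator_eq W
    omega
  rw [← h1]
  have h2 : Nat.card W.dualAnnihilator = Nat.card F ^ finrank F W.dualAnnihilator :=
    Module.natCard_eq_pow_finrank (K := F) (V := ↥W.dualAnnihilator)
  rw [← h2]
  refine Nat.card_congr (Equiv.subtypeEquivRight fun d => ?_)
  rw [Submodule.mem_dualAnnihilator]
  exact ⟨fun h v hv => h hv, fun h v hv => h v hv⟩

theorem sl_three (hn : 2 ≤ n) (W : Submodule F (Fin n → F)) {k : ℕ} (hW : finrank F W = k) (hk : k ≤ n)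
    (c : (Fin n → F) →ₗ[F] F) (hc : c ≠ 0) :
    (Nat.card {y : Matrix.SpecialLinearGroup (Fin n) F // W.map (slAct n F y) ≤ LinearMap.ker c} : ℝ) ≤
      (2 / (Nat.card F : ℝ) ^ k) * Nat.card (Matrix.SpecialLinearGroup (Fin n) F) := by
  classical
  have hF : 2 ≤ Nat.card F := Finite.one_lt_card
  have hF0 : (0 : ℝ) < Nat.card F := by exact_mod_cast (by omega : 0 < Nat.card F)
  have hfin : Finite ((Fin n → F) →ₗ[F] F) := DFunLike.finite _
  have h1 := card_ker_le (slAct n F) W c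
  have h2 : Nat.card {d : (Fin n → F) →ₗ[F] F // (∃ y, d = c ∘ₗ slAct n F y) ∧ W ≤ LinearMap.ker d} ≤
      Nat.card F ^ (n - k) := by
    have h3 := card_ann F W
    rw [hW, finrank_fin_fun] at h3
    rw [← h3]
    exact Nat.card_le_card_of_injective (fun d => ⟨d.1, d.2.2⟩) fun a b hab =>
      Subtype.ext (by have h := congrArg Subtype.val hab; exact h)
  have h3 : Nat.card F ^ n - 1 ≤ Nat.card (Set.range fun y : Matrix.SpecialLinearGroup (Fin n) F => c ∘ₗ slAct n F y) := by
    have h4 : (Set.univ \ {0} : Set ((Fin n → F) →ₗ[F] F)) ⊆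
        Set.range fun y : Matrix.SpecialLinearGroup (Fin n) F => c ∘ₗ slAct n F y := by
      intro d hd
      have hd0 : d ≠ 0 := fun h => hd.2 h
      obtain ⟨g, hg⟩ := exists_sl_fun hc hd0 (by rw [finrank_fin_fun]; exact hn)
      obtain ⟨y, hy⟩ := exists_mat n F g
      refine ⟨y, ?_⟩
      rw [← hg]
      ext v
      simp only [hy, _root_.LinearMap.coe_comp, _root_.LinearMap.coe_single, _root_.Function.comp_apply, _root_.LinearEquiv.coe_coe]
    have h5 := Nat.card_mono (Set.toFinite _) h4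
    have h6 : Nat.card (Set.univ \ {0} : Set ((Fin n → F) →ₗ[F] F)) = Nat.card F ^ n - 1 := by
      rw [Nat.card_coe_set_eq, Set.ncard_sdiff_singleton_of_mem (Set.mem_univ _), Set.ncard_univ]
      have h7 : Nat.card ((Fin n → F) →ₗ[F] F) = Nat.card F ^ finrank F ((Fin n → F) →ₗ[F] F) :=
        Module.natCard_eq_pow_finrank
      rw [h7, Module.finrank_linearMap, finrank_fin_fun, finrank_self, mul_one]
    rwa [h6] at h5
  have h4 : Nat.card F ^ n ≤ 2 * Nat.card (Set.range fun y : Matrix.SpecialLinearGroup (Fin n) F => c ∘ₗ slAct n F y) := by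
    have h5 : 2 ≤ Nat.card F ^ n := hF.trans (Nat.le_self_pow (by omega) _)
    omega
  have h5 : (Nat.card {y : Matrix.SpecialLinearGroup (Fin n) F // W.map (slAct n F y) ≤ LinearMap.ker c} : ℝ) *
      (Nat.card F : ℝ) ^ n ≤ 2 * ((Nat.card F : ℝ) ^ (n - k) * Nat.card (Matrix.SpecialLinearGroup (Fin n) F)) := by
    have h6 : Nat.card {y : Matrix.SpecialLinearGroup (Fin n) F // W.map (slAct n F y) ≤ LinearMap.ker c} * Nat.card F ^ n ≤
        2 * (Nat.card F ^ (n - k) * Nat.card (Matrix.SpecialLinearGroup (Fin n) F)) := by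
      calc _ ≤ Nat.card {y : Matrix.SpecialLinearGroup (Fin n) F // W.map (slAct n F y) ≤ LinearMap.ker c} *
            (2 * Nat.card (Set.range fun y : Matrix.SpecialLinearGroup (Fin n) F => c ∘ₗ slAct n F y)) :=
            Nat.mul_le_mul_left _ h4
        _ = 2 * (Nat.card {y : Matrix.SpecialLinearGroup (Fin n) F // W.map (slAct n F y) ≤ LinearMap.ker c} *
            Nat.card (Set.range fun y : Matrix.SpecialLinearGroup (Fin n) F => c ∘ₗ slAct n F y)) := by ring
        _ ≤ 2 * _ := Nat.mul_le_mul_left _ (h1.trans (Nat.mul_le_mul_right _ h2))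
    exact_mod_cast h6
  rw [div_mul_eq_mul_div, le_div_iff₀ (by positivity)]
  have h6 : (Nat.card F : ℝ) ^ n = (Nat.card F : ℝ) ^ (n - k) * (Nat.card F : ℝ) ^ k := by
    rw [← pow_add]
    congr 1
    omega
  rw [h6] at h5
  have h7 : (0 : ℝ) < (Nat.card F : ℝ) ^ (n - k) := by positivity
  nlinarith only [h5, h7]

/-- half of the dimensions -/
theorem sl_half (h8 : 8 ≤ n) (hF : 4 ≤ Nat.card F) (x : Matrix.SpecialLinearGroup (Fin n) F)
    (hx : ¬ ∃ l : F, ∀ v, slAct n F x v = l • v) :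
    (Nat.card {z : Matrix.SpecialLinearGroup (Fin n) F // ∃ W : Submodule F (Fin n → F), W ≠ ⊥ ∧ 2 * finrank F W ≤ n ∧
      W.map (slAct n F x) ≤ W ∧ W.map (slAct n F z) ≤ W} : ℝ) ≤
      (1224 / (Nat.card F : ℝ)) * Nat.card (Matrix.SpecialLinearGroup (Fin n) F) := by
  classical
  let T : ℕ → Finset (Submodule F (Fin n → F)) := fun k =>
    if h : ∃ W : Submodule F (Fin n → F), finrank F W = k then {Classical.choose h} else ∅
  have hT : ∀ k, ∀ W ∈ T k, finrank F W = k := by
    intro k W hW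
    simp only [T] at hW
    split_ifs at hW with h
    · rw [Finset.mem_singleton] at hW
      rw [hW]
      exact Classical.choose_spec h
    · simp at hW
  have hcard : ∀ k, (T k).card ≤ 1 := by
    intro k
    simp only [T]
    split_ifs with h
    · simp
    · simp
  have hq : (4 : ℝ) ≤ (Nat.card F : ℝ) := by exact_mod_cast hF
  have h := types_le (slAct n F) (MonoidHom.id _) Function.injective_id (m := 1) (by rw [one_mul])
    (by rw [finrank_fin_fun]; exact h8) (q := (Nat.card F : ℝ)) (C1 := 2) hq le_rfl (by norm_num) T hT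
    (fun k hk => by
      have h1 : ((T k).card : ℝ) ≤ 1 := by exact_mod_cast hcard k
      have h2 : (1 : ℝ) ≤ ((Nat.card F : ℝ) / 2) ^ (k - 1) := one_le_pow₀ (by linarith only [hq])
      linarith only [h1, h2])
    (fun k hk => by
      have h1 : ((T k).card : ℝ) ≤ 1 := by exact_mod_cast hcard k
      have h2 : (1 : ℝ) ≤ 2 ^ k := one_le_pow₀ (by norm_num)
      nlinarith only [hq, h1, h2])
    (by rw [finrank_fin_fun]; exact sl_one n F (by omega))
    (by rw [finrank_fin_fun]; exact sl_two n F (by omega))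
    (fun k hk1 hk2 W hW c hc => by
      rw [finrank_fin_fun] at hk2
      refine (sl_three n F (by omega) W (hT k W hW) (by omega) c hc).trans
        (mul_le_mul_of_nonneg_right ?_ (Nat.cast_nonneg _))
      have : (0 : ℝ) ≤ 2 * (Nat.card F : ℝ) ^ (finrank F (Fin n → F) / 2 + 2) / (Nat.card F : ℝ) ^ finrank F (Fin n → F) := by
        positivity
      linarith only [this])
    x hx
  refine le_trans ?_ (h.trans (le_of_eq (by ring)))
  have h2 : Nat.card {z : Matrix.SpecialLinearGroup (Fin n) F // ∃ W : Submodule F (Fin n → F), W ≠ ⊥ ∧ 2 * finrank F W ≤ n ∧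
      W.map (slAct n F x) ≤ W ∧ W.map (slAct n F z) ≤ W} ≤
      Nat.card {z : Matrix.SpecialLinearGroup (Fin n) F // ∃ k, 1 ≤ k ∧ 2 * k ≤ finrank F (Fin n → F) ∧ ∃ W ∈ T k, ∃ y,
      (W.map (slAct n F y)).map (slAct n F (MonoidHom.id _ x)) ≤ W.map (slAct n F y) ∧
        (W.map (slAct n F y)).map (slAct n F (MonoidHom.id _ z)) ≤ W.map (slAct n F y)} := by
    refine Nat.card_le_card_of_injective (fun z => ⟨z.1, ?_⟩) fun a b hab =>
      Subtype.ext (by have h := congrArg Subtype.val hab; exact h)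
    obtain ⟨W, hW0, hW2, hWx, hWz⟩ := z.2
    have hWpos : 0 < finrank F W := Submodule.one_le_finrank_iff.2 hW0
    have hex : ∃ W' : Submodule F (Fin n → F), finrank F W' = finrank F W := ⟨W, rfl⟩
    have hmem : Classical.choose hex ∈ T (finrank F W) := by
      simp only [T, dif_pos hex, Finset.mem_singleton]
    have hdim := Classical.choose_spec hex
    obtain ⟨g, hg⟩ := exists_sl_sub hdim (by omega)
    obtain ⟨y, hy⟩ := exists_mat n F g
    have hWy : (Classical.choose hex).map (slAct n F y) = W := by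
      have e1 : slAct n F y = (g.1 : (Fin n → F) →ₗ[F] (Fin n → F)) := LinearMap.ext hy
      calc (Classical.choose hex).map (slAct n F y) = (Classical.choose hex).map (g.1 : (Fin n → F) →ₗ[F] (Fin n → F)) := by
            rw [e1]
        _ = W := hg
    refine ⟨finrank F W, hWpos, by rw [finrank_fin_fun]; exact hW2, _, hmem, y, ?_⟩
    rw [hWy]
    exact ⟨hWx, hWz⟩
  exact_mod_cast h2

/-- the dot product -/
noncomputable def dotB : LinearMap.BilinForm F (Fin n → F) := Matrix.toBilin' (1 : Matrix (Fin n) (Fin n) F)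

theorem dotB_apply (u v : Fin n → F) : dotB n F u v = u ⬝ᵥ v := by
  rw [dotB, Matrix.toBilin'_apply', Matrix.one_mulVec]

theorem dotB_nondeg : (dotB n F).Nondegenerate := by
  apply LinearMap.BilinForm.nondegenerate_toBilin'_of_det_ne_zero'
  rw [Matrix.det_one]
  exact one_ne_zero

/-- the inverse transpose -/
def invT (x : Matrix.SpecialLinearGroup (Fin n) F) : Matrix.SpecialLinearGroup (Fin n) F := x⁻¹.transpose

theorem invT_invT (x : Matrix.SpecialLinearGroup (Fin n) F) : invT n F (invT n F x) = x := by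
  apply Subtype.ext
  have h : ((invT n F (invT n F x) : Matrix.SpecialLinearGroup (Fin n) F) : Matrix (Fin n) (Fin n) F) =
      (((x⁻¹).transpose)⁻¹ : Matrix.SpecialLinearGroup (Fin n) F).1.transpose := rfl
  rw [h, Matrix.SpecialLinearGroup.coe_inv, Matrix.SpecialLinearGroup.coe_transpose, Matrix.adjugate_transpose,
    Matrix.transpose_transpose, ← Matrix.SpecialLinearGroup.coe_inv, inv_inv]

theorem perp_inv {W : Submodule F (Fin n → F)} {x : Matrix.SpecialLinearGroup (Fin n) F}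
    (h : W.map (slAct n F x) ≤ W) : ((dotB n F).orthogonal W).map (slAct n F (invT n F x)) ≤ (dotB n F).orthogonal W := by
  have h1 : W.map (slAct n F x) = W := map_eq_of_le (slAct n F) x h
  have h2 : ∀ w ∈ W, slAct n F x⁻¹ w ∈ W := by
    intro w hw
    rw [← h1] at hw
    obtain ⟨w', hw', rfl⟩ := hw
    rw [← rho_mul, inv_mul_cancel, map_one]
    exact hw'
  rintro _ ⟨u, hu, rfl⟩
  rw [LinearMap.BilinForm.mem_orthogonal_iff]
  intro w hw
  have h3 := (LinearMap.BilinForm.mem_orthogonal_iff.1 hu) _ (h2 w hw)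
  change dotB n F _ _ = 0 at h3
  change dotB n F _ _ = 0
  rw [dotB_apply, slAct_apply] at h3 ⊢
  have h4 : ((invT n F x : Matrix.SpecialLinearGroup (Fin n) F) : Matrix (Fin n) (Fin n) F) =
      ((x⁻¹ : Matrix.SpecialLinearGroup (Fin n) F) : Matrix (Fin n) (Fin n) F).transpose := rfl
  rw [h4, Matrix.mulVec_transpose, dotProduct_comm, ← Matrix.dotProduct_mulVec, dotProduct_comm]
  exact h3

/-- **`SL_n(F)` : pairs with a common invariant subspace** -/
theorem red_sl (h8 : 8 ≤ n) (hF : 4 ≤ Nat.card F) (x : Matrix.SpecialLinearGroup (Fin n) F)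
    (hx : ¬ ∃ l : F, ∀ v, slAct n F x v = l • v) :
    (Nat.card {z : Matrix.SpecialLinearGroup (Fin n) F // Red (slAct n F) x z} : ℝ) ≤
      (2448 / (Nat.card F : ℝ)) * Nat.card (Matrix.SpecialLinearGroup (Fin n) F) := by
  classical
  have hx' : ¬ ∃ l : F, ∀ v, slAct n F (invT n F x) v = l • v := by
    rintro ⟨l, hl⟩
    apply hx
    have h1 : ((x⁻¹ : Matrix.SpecialLinearGroup (Fin n) F) : Matrix (Fin n) (Fin n) F).transpose =
        l • (1 : Matrix (Fin n) (Fin n) F) := by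
      apply Matrix.ext_of_mulVec_single
      intro i
      have := hl (Pi.single i 1)
      rw [slAct_apply] at this
      rw [Matrix.smul_mulVec, Matrix.one_mulVec]
      exact this
    have h2 : ((x⁻¹ : Matrix.SpecialLinearGroup (Fin n) F) : Matrix (Fin n) (Fin n) F) = l • (1 : Matrix (Fin n) (Fin n) F) := by
      rw [← Matrix.transpose_transpose ((x⁻¹ : Matrix.SpecialLinearGroup (Fin n) F) : Matrix (Fin n) (Fin n) F), h1,
        Matrix.transpose_smul, Matrix.transpose_one]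
    have h3 : l • (x : Matrix (Fin n) (Fin n) F) = 1 := by
      have h4 : ((x⁻¹ * x : Matrix.SpecialLinearGroup (Fin n) F) : Matrix (Fin n) (Fin n) F) = 1 := by
        rw [inv_mul_cancel]
        rfl
      rw [Matrix.SpecialLinearGroup.coe_mul, h2, Matrix.smul_mul, Matrix.one_mul] at h4
      exact h4
    have hl0 : l ≠ 0 := by
      rintro rfl
      rw [zero_smul] at h3
      have : Nonempty (Fin n) := ⟨⟨0, by omega⟩⟩
      exact zero_ne_one h3
    refine ⟨l⁻¹, fun v => ?_⟩
    rw [slAct_apply]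
    have h5 : (x : Matrix (Fin n) (Fin n) F) = l⁻¹ • (1 : Matrix (Fin n) (Fin n) F) := by
      rw [← h3, smul_smul, inv_mul_cancel₀ hl0, one_smul]
    rw [h5, Matrix.smul_mulVec, Matrix.one_mulVec]
  have h1 := sl_half n F h8 hF x hx
  have h2 := sl_half n F h8 hF (invT n F x) hx'
  have h3 : Nat.card {z : Matrix.SpecialLinearGroup (Fin n) F // Red (slAct n F) x z} ≤
      Nat.card {z : Matrix.SpecialLinearGroup (Fin n) F // ∃ W : Submodule F (Fin n → F), W ≠ ⊥ ∧ 2 * finrank F W ≤ n ∧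
        W.map (slAct n F x) ≤ W ∧ W.map (slAct n F z) ≤ W} +
      Nat.card {z : Matrix.SpecialLinearGroup (Fin n) F // ∃ W : Submodule F (Fin n → F), W ≠ ⊥ ∧ 2 * finrank F W ≤ n ∧
        W.map (slAct n F (invT n F x)) ≤ W ∧ W.map (slAct n F z) ≤ W} := by
    rw [← Nat.card_sum]
    have key : ∀ z : {z : Matrix.SpecialLinearGroup (Fin n) F // Red (slAct n F) x z},
        (¬ ∃ W : Submodule F (Fin n → F), W ≠ ⊥ ∧ 2 * finrank F W ≤ n ∧
        W.map (slAct n F x) ≤ W ∧ W.map (slAct n F z.1) ≤ W) →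
        ∃ W : Submodule F (Fin n → F), W ≠ ⊥ ∧ 2 * finrank F W ≤ n ∧
        W.map (slAct n F (invT n F x)) ≤ W ∧ W.map (slAct n F (invT n F z.1)) ≤ W := by
      rintro ⟨z, W, hW0, hW1, hWx, hWz⟩ hno
      have h4 : ¬ 2 * finrank F W ≤ n := fun h => hno ⟨W, hW0, h, hWx, hWz⟩
      have h5 := LinearMap.BilinForm.finrank_orthogonal (dotB_nondeg n F) W
      rw [finrank_fin_fun] at h5
      refine ⟨(dotB n F).orthogonal W, ?_, by omega, perp_inv n F hWx, perp_inv n F hWz⟩
      intro h6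
      rw [h6, finrank_bot] at h5
      apply hW1
      apply Submodule.eq_top_of_finrank_eq
      have h7 := Submodule.finrank_le W
      rw [finrank_fin_fun] at h7 ⊢
      omega
    refine Nat.card_le_card_of_injective (fun z => if h : ∃ W : Submodule F (Fin n → F), W ≠ ⊥ ∧ 2 * finrank F W ≤ n ∧
        W.map (slAct n F x) ≤ W ∧ W.map (slAct n F z.1) ≤ W then Sum.inl ⟨z.1, h⟩ else
        Sum.inr ⟨invT n F z.1, key z h⟩) ?_
    intro a b hab
    by_cases ha : ∃ W : Submodule F (Fin n → F), W ≠ ⊥ ∧ 2 * finrank F W ≤ n ∧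
        W.map (slAct n F x) ≤ W ∧ W.map (slAct n F a.1) ≤ W
    · by_cases hb : ∃ W : Submodule F (Fin n → F), W ≠ ⊥ ∧ 2 * finrank F W ≤ n ∧
        W.map (slAct n F x) ≤ W ∧ W.map (slAct n F b.1) ≤ W
      · simp only [dif_pos ha, dif_pos hb, Sum.inl.injEq, Subtype.mk.injEq] at hab
        exact Subtype.ext hab
      · simp only [dif_pos ha, dif_neg hb] at hab
        cases hab
    · by_cases hb : ∃ W : Submodule F (Fin n → F), W ≠ ⊥ ∧ 2 * finrank F W ≤ n ∧
        W.map (slAct n F x) ≤ W ∧ W.map (slAct n F b.1) ≤ W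
      · simp only [dif_neg ha, dif_pos hb] at hab
        cases hab
      · simp only [dif_neg ha, dif_neg hb, Sum.inr.injEq, Subtype.mk.injEq] at hab
        refine Subtype.ext ?_
        rw [← invT_invT n F a.1, ← invT_invT n F b.1, hab]
  have h4 : (Nat.card {z : Matrix.SpecialLinearGroup (Fin n) F // Red (slAct n F) x z} : ℝ) ≤
      (Nat.card {z : Matrix.SpecialLinearGroup (Fin n) F // ∃ W : Submodule F (Fin n → F), W ≠ ⊥ ∧ 2 * finrank F W ≤ n ∧
        W.map (slAct n F x) ≤ W ∧ W.map (slAct n F z) ≤ W} : ℝ) +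
      (Nat.card {z : Matrix.SpecialLinearGroup (Fin n) F // ∃ W : Submodule F (Fin n → F), W ≠ ⊥ ∧ 2 * finrank F W ≤ n ∧
        W.map (slAct n F (invT n F x)) ≤ W ∧ W.map (slAct n F z) ≤ W} : ℝ) := by exact_mod_cast h3
  calc _ ≤ _ := h4
    _ ≤ _ := add_le_add h1 h2
    _ = _ := by ring

end Main

end Cfsg.Agent.H262.Rx

private theorem dce_474157bded1a : _root_.True := by
  try have : _root_.True := by simp only [_root_.Cfsg.Agent.H262.Rx.dotB.eq_1]
  exact _root_.True.intro
end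
end
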